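import Mathlib
import Cfsg.Agent.Lib.H28.RelSyl

/-!
Team T-CIT: shared definitions.  All subgroups live in one group `G`; relative Sylow subgroups are
`H28.RelSyl.IsSyl 2 P N`, conjugates are `H28.Cj.cj g H = g H g⁻¹`.
-/
set_option autoImplicit false

namespace Lead.CIT

open Subgroup H28.Cj H28.RelSyl

universe u

/-- elementwise form of "centralisers of involutions are 2-groups": an element of odd order
commuting with an involution is trivial. -/
def Sep (G : Type*) [Group G] : Prop :=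
  ∀ x t : G, orderOf t = 2 → Odd (orderOf x) → x * t = t * x → x = 1

/-- elementary abelian `2`-subgroups (commutativity is automatic) -/
def IsEA {G : Type*} [Group G] (A : Subgroup G) : Prop := ∀ x ∈ A, x * x = 1

/-- `A` is an elementary abelian subgroup of `P` of maximal order -/
def IsMaxEA {G : Type*} [Group G] (A P : Subgroup G) : Prop :=
  A ≤ P ∧ IsEA A ∧ ∀ B : Subgroup G, B ≤ P → IsEA B → Nat.card B ≤ Nat.card A

/-- the Thompson subgroup (elementary abelian version, maximal order) -/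
def JT {G : Type*} [Group G] (P : Subgroup G) : Subgroup G :=
  ⨆ A : {A : Subgroup G // IsMaxEA A P}, (A : Subgroup G)

/-- `Ω₁(Z(D))` for the prime `2` -/
def OZ {G : Type*} [Group G] (D : Subgroup G) : Subgroup G where
  carrier := {x | x ∈ D ∧ x * x = 1 ∧ ∀ y ∈ D, x * y = y * x}
  one_mem' := ⟨D.one_mem, one_mul 1, fun y _ => by rw [one_mul, mul_one]⟩
  mul_mem' := by
    rintro a b ⟨ha, ha1, ha2⟩ ⟨hb, hb1, hb2⟩
    refine ⟨D.mul_mem ha hb, ?_, ?_⟩
    · calc a * b * (a * b) = a * (b * a) * b := by group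
        _ = a * (a * b) * b := by rw [ha2 b hb]
        _ = (a * a) * (b * b) := by group
        _ = 1 := by rw [ha1, hb1, one_mul]
    · intro y hy
      calc a * b * y = a * (b * y) := by group
        _ = a * (y * b) := by rw [hb2 y hy]
        _ = (a * y) * b := by group
        _ = y * (a * b) := by rw [ha2 y hy]; group
  inv_mem' := by
    rintro a ⟨ha, ha1, ha2⟩
    have : a⁻¹ = a := inv_eq_of_mul_eq_one_left ha1
    rw [this]; exact ⟨ha, ha1, ha2⟩

/-- `D` is the largest normal `2`-subgroup of `N` -/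
structure IsO2 {G : Type*} [Group G] (D N : Subgroup G) : Prop where
  le : D ≤ N
  nor : N ≤ normalizer (D : Set G)
  two : IsPGroup 2 D
  max : ∀ E : Subgroup G, E ≤ N → N ≤ normalizer (E : Set G) → IsPGroup 2 E → E ≤ D

/-- Sylow `2`-subgroups of `N` intersect pairwise in `D` -/
def TIMod {G : Type*} [Group G] (D N : Subgroup G) : Prop :=
  ∀ P P' : Subgroup G, IsSyl 2 P N → IsSyl 2 P' N → P ≠ P' → P ⊓ P' ≤ D

/-- "natural type": `V` is elementary abelian of order `q²`, `D = C_G(V)`, `N = N_G(V)`, and `N / D` acts on `V`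
like `SL₂(q)` on its natural module. -/
structure Nat2 {G : Type*} [Group G] (q : ℕ) (V : Subgroup G) : Prop where
  q1 : 1 < q
  ea : IsEA V
  card : Nat.card V = q ^ 2
  two : IsPGroup 2 (centralizer (V : Set G))
  cle : ∀ P : Subgroup G, IsSyl 2 P (normalizer (V : Set G)) → centralizer (V : Set G) ≤ P
  cardP : ∀ P : Subgroup G, IsSyl 2 P (normalizer (V : Set G)) →
    Nat.card P = q * Nat.card (centralizer (V : Set G))
  cz : ∀ P : Subgroup G, IsSyl 2 P (normalizer (V : Set G)) →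
    Nat.card (V ⊓ centralizer (P : Set G) : Subgroup G) = q
  fix : ∀ P : Subgroup G, IsSyl 2 P (normalizer (V : Set G)) → ∀ x ∈ P,
    x ∉ centralizer (V : Set G) → ∀ v ∈ V, x * v = v * x → v ∈ centralizer (P : Set G)
  comm : ∀ P : Subgroup G, IsSyl 2 P (normalizer (V : Set G)) → ∀ x ∈ P, ∀ v ∈ V,
    v * x * v⁻¹ * x⁻¹ ∈ centralizer (P : Set G)
  oz : ∀ P : Subgroup G, IsSyl 2 P (normalizer (V : Set G)) → OZ P ≤ V
  gen : ∀ P P' : Subgroup G, IsSyl 2 P (normalizer (V : Set G)) →
    IsSyl 2 P' (normalizer (V : Set G)) → P ≠ P' → P ⊔ P' = normalizer (V : Set G)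
  ex : ∃ P P' : Subgroup G, IsSyl 2 P (normalizer (V : Set G)) ∧
    IsSyl 2 P' (normalizer (V : Set G)) ∧ P ≠ P'

/-- adjacency: different `V`, `V'` whose normalisers share a Sylow `2`-subgroup -/
def Adj {G : Type*} [Group G] (V V' : Subgroup G) : Prop :=
  V ≠ V' ∧ ∃ P : Subgroup G, IsSyl 2 P (normalizer (V : Set G)) ∧ IsSyl 2 P (normalizer (V' : Set G))

variable {G : Type*} [Group G]

theorem mem_OZ {D : Subgroup G} {x : G} :
    x ∈ OZ D ↔ x ∈ D ∧ x * x = 1 ∧ ∀ y ∈ D, x * y = y * x := Iff.rfl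

theorem OZ_le (D : Subgroup G) : OZ D ≤ D := fun _ h => h.1

theorem IsEA_OZ (D : Subgroup G) : IsEA (OZ D) := fun _ h => h.2.1

theorem IsEA.comm {A : Subgroup G} (h : IsEA A) {x y : G} (hx : x ∈ A) (hy : y ∈ A) :
    x * y = y * x := by
  have h1 := h _ (A.mul_mem hx hy)
  have hx1 := h x hx
  have hy1 := h y hy
  have e1 : x⁻¹ = x := inv_eq_of_mul_eq_one_left hx1
  have e2 : y⁻¹ = y := inv_eq_of_mul_eq_one_left hy1
  have : (x * y)⁻¹ = x * y := inv_eq_of_mul_eq_one_left h1
  rw [mul_inv_rev, e1, e2] at this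
  exact this.symm

theorem IsEA.inv_eq {A : Subgroup G} (h : IsEA A) {x : G} (hx : x ∈ A) : x⁻¹ = x :=
  inv_eq_of_mul_eq_one_left (h x hx)

theorem IsEA.orderOf {A : Subgroup G} (h : IsEA A) {x : G} (hx : x ∈ A) (hx1 : x ≠ 1) :
    orderOf x = 2 := by
  apply orderOf_eq_prime
  · rw [pow_two]; exact h x hx
  · exact hx1

theorem IsEA.isPGroup {A : Subgroup G} (h : IsEA A) : IsPGroup 2 A := by
  intro x
  refine ⟨1, ?_⟩
  rw [pow_one, pow_two]
  exact Subtype.ext (h x x.2)

theorem IsEA.mono {A B : Subgroup G} (h : IsEA A) (hB : B ≤ A) : IsEA B := fun x hx => h x (hB hx)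

theorem IsEA.le_centralizer {A : Subgroup G} (h : IsEA A) : A ≤ centralizer (A : Set G) := by
  intro x hx
  rw [mem_centralizer_iff]
  intro y hy
  exact h.comm hy hx

theorem OZ_comm {D : Subgroup G} {x y : G} (hx : x ∈ OZ D) (hy : y ∈ D) : x * y = y * x :=
  hx.2.2 y hy

end Lead.CIT
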