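import Mathlib
import Cfsg.Prelude.Def_Involutions
import Cfsg.Agent.S0215
import Cfsg.Agent.S0949
import Cfsg.Agent.S1238
import Cfsg.Agent.Lib.H27.RankOne
import Cfsg.Agent.Lib.H25.ZStarApp

/-!
Sylow 2-subgroups of nonabelian simple groups of 2-rank at most two (modulo the odd order
theorem, a parameter).
-/

set_option autoImplicit false
set_option linter.unusedSectionVars false
set_option linter.style.haveILetI false

namespace Lead.TwoRankTwo

open Subgroup Cfsg
open scoped commutatorElement

universe u

/-- the odd order theorem as a hypothesis -/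
def FT : Prop := ∀ (X : Type u) [Group X] [Finite X], Odd (Nat.card X) → Group.IsSolvable X

variable {G : Type u} [Group G] [Finite G] [IsSimpleGroup G]

theorem not_comm_of_normal (hG : ¬ IsMulCommutative G) {N : Subgroup G} (hN : N.Normal)
    (hc : IsMulCommutative N) : N = ⊥ := by
  rcases hN.eq_bot_or_eq_top with h | h
  · exact h
  · exfalso
    apply hG
    subst h
    refine ⟨⟨fun a b => ?_⟩⟩
    exact congrArg Subtype.val (hc.is_comm.comm (⟨a, mem_top a⟩ : (⊤ : Subgroup G)) ⟨b, mem_top b⟩)

theorem not_solvable (hG : ¬ IsMulCommutative G) : ¬ Group.IsSolvable G := by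
  intro hs
  apply hG
  refine ⟨⟨fun a b => ?_⟩⟩
  exact IsSimpleGroup.comm_iff_isSolvable.mpr hs a b

theorem center_eq_bot (hG : ¬ IsMulCommutative G) : center G = ⊥ :=
  not_comm_of_normal hG inferInstance inferInstance

theorem even_card (ft : FT.{u}) (hG : ¬ IsMulCommutative G) : 2 ∣ Nat.card G := by
  by_contra h
  exact not_solvable hG (ft G (by rw [← Nat.not_even_iff_odd, even_iff_two_dvd]; exact h))

theorem quasisimple (hG : ¬ IsMulCommutative G) : Cfsg.IsQuasisimple G := by
  constructor
  · constructor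
    have hn : (commutator G).Normal := inferInstance
    rcases hn.eq_bot_or_eq_top with h | h
    · exfalso
      apply hG
      refine ⟨⟨fun a b => ?_⟩⟩
      have hab : ⁅a, b⁆ ∈ commutator G := Subgroup.commutator_mem_commutator (mem_top a) (mem_top b)
      rw [h, Subgroup.mem_bot, commutatorElement_eq_one_iff_mul_comm] at hab
      exact hab
    · exact h
  · have e : G ⧸ center G ≃* G :=
      (QuotientGroup.quotientMulEquivOfEq (center_eq_bot hG)).trans QuotientGroup.quotientBot
    exact e.isSimpleGroup

theorem main (ft : FT.{u}) (hG : ¬ IsMulCommutative G) (h2 : Cfsg.PRankLE 2 2 G) (S : Sylow 2 G)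
    {F : Type*} [Field F] [Fintype F] (hF : Fintype.card F = 16) (P : Sylow 2 (Cfsg.PSU 3 F 4)) :
    (∃ n : ℕ, 2 ≤ n ∧ Nonempty ((S : Subgroup G) ≃* DihedralGroup n)) ∨
      Cfsg.IsQuasiDihedral (S : Subgroup G) ∨
      Cfsg.IsWreathed (S : Subgroup G) ∨
      Nonempty ((S : Subgroup G) ≃* (P : Subgroup (Cfsg.PSU 3 F 4))) := by
  have hev := even_card ft hG
  have hZ : H26.ZStarUse.ZStarHyp.{u} :=
    fun G _ _ P u hu huP hiso => Cfsg.Agent.S0215.result P u hu huP hiso
  by_cases h1 : Cfsg.PRankLE 2 1 G
  · exfalso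
    obtain ⟨t, ht, htc, -⟩ := H27.RankOne.exists_central hZ (quasisimple hG) hev h1
    rw [center_eq_bot hG, mem_bot] at htc
    rw [htc, orderOf_one] at ht
    omega
  have hidx : ∀ H : Subgroup G, H.index ≠ 2 := by
    intro H hH
    have hN : H.Normal := Subgroup.normal_of_index_eq_two hH
    rcases hN.eq_bot_or_eq_top with h | h
    · rw [h, Subgroup.index_bot] at hH
      apply hG
      haveI : Fact (Nat.Prime 2) := ⟨Nat.prime_two⟩
      haveI := isCyclic_of_prime_card hH
      exact ⟨⟨fun a b => (IsCyclic.commGroup (α := G)).mul_comm a b⟩⟩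
    · rw [h, Subgroup.index_top] at hH
      omega
  have hiso : ∀ z : G, ¬ Cfsg.IsIsolatedInvolution z := by
    intro z hz
    have h := H25.ZStarApp.zstar_core' hZ hz
    have hN : (Cfsg.pPrimeCore 2 G).Normal := inferInstance
    rcases hN.eq_bot_or_eq_top with h0 | h0
    · have hzc : z ∈ center G := by
        rw [mem_center_iff]
        intro g
        have := h g
        rw [h0, mem_bot] at this
        have h3 : z * g = g * z := by
          have := congrArg (· * (g * z)) this
          simpa [mul_assoc] using this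
        exact h3.symm
      rw [center_eq_bot hG, mem_bot] at hzc
      have := hz.1
      rw [hzc, orderOf_one] at this
      omega
    · have h3 := H1.Cores.coprime_card_pPrimeCore (G := G) 2
      rw [h0, card_top] at h3
      exact absurd h3 (fun h4 => by
        have := Nat.Coprime.eq_one_of_dvd h4.symm hev
        omega)
  rcases Cfsg.Agent.S1238.result h2 h1 hidx hiso S hF P with h | h | h | ⟨n, hn, ⟨e⟩⟩ | h
  · exact Or.inl h
  · exact Or.inr (Or.inl h)
  · exact Or.inr (Or.inr (Or.inl h))
  · exfalso
    have hO : ∀ N : Subgroup G, N.Normal → Odd (Nat.card N) → N = ⊥ := by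
      intro N hN hodd
      rcases hN.eq_bot_or_eq_top with h | h
      · exact h
      · rw [h, card_top] at hodd
        exact absurd (even_iff_two_dvd.mpr hev) (Nat.not_even_iff_odd.mpr hodd)
    obtain ⟨hSn, -, -⟩ := Cfsg.Agent.S0949.result S n hn e hO
    have hSc : IsMulCommutative (S : Subgroup G) :=
      ⟨⟨fun a b => e.injective (by rw [map_mul, map_mul, mul_comm])⟩⟩
    have hSb := not_comm_of_normal hG hSn hSc
    have : Nat.card (S : Subgroup G) = Nat.card (Multiplicative (ZMod (2 ^ n) × ZMod (2 ^ n))) :=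
      Nat.card_congr e.toEquiv
    have h4 : Nat.card (Multiplicative (ZMod (2 ^ n) × ZMod (2 ^ n))) = 2 ^ n * 2 ^ n := by
      change Nat.card (ZMod (2 ^ n) × ZMod (2 ^ n)) = _
      rw [Nat.card_prod, Nat.card_zmod]
    rw [hSb, Subgroup.card_bot, h4] at this
    have h5 : 4 ≤ 2 ^ n := by
      calc 4 = 2 ^ 2 := by norm_num
        _ ≤ 2 ^ n := Nat.pow_le_pow_right (by norm_num) hn
    nlinarith
  · exact Or.inr (Or.inr (Or.inr h))

end Lead.TwoRankTwo
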