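import Mathlib
import Cfsg.Agent.Lib.Lead.CITBase

set_option autoImplicit false

namespace Lead.CIT3

open Subgroup H28.Cj H28.RelSyl Lead.CIT

universe u

/-! ### free actions -/

theorem card_dvd_of_free {K X : Type*} [Group K] [Finite K] [MulAction K X] [Finite X]
    (hf : ∀ x : X, ∀ k : K, k • x = x → k = 1) : Nat.card K ∣ Nat.card X := by
  classical
  have e := MulAction.selfEquivSigmaOrbitsQuotientStabilizer K X
  rw [Nat.card_congr e]
  have hst : ∀ ω : Quotient (MulAction.orbitRel K X), MulAction.stabilizer K ω.out = ⊥ := by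
    intro ω
    rw [eq_bot_iff]
    intro k hk
    exact hf _ _ (MulAction.mem_stabilizer_iff.1 hk)
  haveI := Fintype.ofFinite (Quotient (MulAction.orbitRel K X))
  rw [Nat.card_sigma]
  apply Finset.dvd_sum
  intro ω _
  rw [hst ω]
  rw [Nat.card_congr (QuotientGroup.quotientBot (G := K)).toEquiv]

/-! ### dihedral facts -/

section dih

variable {H : Type*} [Group H]

theorem inv_of_orderOf_two {s : H} (hs : orderOf s = 2) : s⁻¹ = s := by
  have : s * s = 1 := by rw [← pow_two, ← hs]; exact pow_orderOf_eq_one s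
  exact inv_eq_of_mul_eq_one_left this

theorem sq_of_orderOf_two {s : H} (hs : orderOf s = 2) : s * s = 1 := by
  rw [← pow_two, ← hs]; exact pow_orderOf_eq_one s

theorem conj_prod {s t : H} (hs : orderOf s = 2) (ht : orderOf t = 2) :
    s * (s * t) * s⁻¹ = (s * t)⁻¹ := by
  have h1 := inv_of_orderOf_two hs
  have h2 := inv_of_orderOf_two ht
  rw [mul_inv_rev, h1, h2, ← mul_assoc, sq_of_orderOf_two hs, one_mul]

theorem conj_prod' {s t : H} (hs : orderOf s = 2) (ht : orderOf t = 2) :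
    t * (s * t) * t⁻¹ = (s * t)⁻¹ := by
  have h1 := inv_of_orderOf_two hs
  have h2 := inv_of_orderOf_two ht
  rw [mul_inv_rev, h1, h2, mul_assoc, mul_assoc, sq_of_orderOf_two ht, mul_one]

theorem conj_pow_prod {s t : H} (hs : orderOf s = 2) (ht : orderOf t = 2) (n : ℕ) :
    s * (s * t) ^ n * s⁻¹ = ((s * t) ^ n)⁻¹ := by
  rw [← conj_pow, conj_prod hs ht, inv_pow]

theorem conj_pow_prod' {s t : H} (hs : orderOf s = 2) (ht : orderOf t = 2) (n : ℕ) :
    t * (s * t) ^ n * t⁻¹ = ((s * t) ^ n)⁻¹ := by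
  rw [← conj_pow, conj_prod' hs ht, inv_pow]

/-- if `s t` has odd order then `s` and `t` are conjugate, by an involution swapping them -/
theorem isConj_of_odd {s t : H} (hs : orderOf s = 2) (ht : orderOf t = 2) (ho : Odd (orderOf (s * t))) :
    IsConj s t := by
  obtain ⟨k, hk⟩ := ho
  rw [isConj_iff]
  refine ⟨(s * t) ^ k, ?_⟩
  have h1 := conj_pow_prod hs ht k
  have h2 := inv_of_orderOf_two hs
  -- (st)^k s (st)^-k = (st)^(2k) s = (st)^{-1} s = t
  have h3 : s * ((s * t) ^ k)⁻¹ = (s * t) ^ k * s := by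
    rw [← h1, h2, ← mul_assoc, ← mul_assoc, sq_of_orderOf_two hs, one_mul]
  have h4 : (s * t) ^ (2 * k + 1) = 1 := by rw [← hk]; exact pow_orderOf_eq_one _
  calc (s * t) ^ k * s * ((s * t) ^ k)⁻¹ = (s * t) ^ k * (s * ((s * t) ^ k)⁻¹) := by group
    _ = (s * t) ^ k * ((s * t) ^ k * s) := by rw [h3]
    _ = (s * t) ^ (2 * k) * s := by rw [← mul_assoc, ← pow_add]; congr 2; ring
    _ = (s * t)⁻¹ * (s * t) ^ (2 * k + 1) * s := by
        rw [pow_succ' (s * t) (2 * k), inv_mul_cancel_left]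
    _ = t := by rw [h4, mul_one, mul_inv_rev, h2, inv_of_orderOf_two ht, mul_assoc,
        sq_of_orderOf_two hs, mul_one]

/-- if `s t` has even order there is an involution commuting with both -/
theorem exists_central_of_even [Finite H] {s t : H} (hs : orderOf s = 2) (ht : orderOf t = 2)
    (he : ¬ Odd (orderOf (s * t))) :
    ∃ c : H, orderOf c = 2 ∧ c * s = s * c ∧ c * t = t * c := by
  rw [Nat.not_odd_iff_even] at he
  obtain ⟨m, hm⟩ := he
  have hpos : 0 < orderOf (s * t) := orderOf_pos _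
  have hm0 : 0 < m := by omega
  have hc2 : orderOf ((s * t) ^ m) = 2 := by
    rw [orderOf_pow' _ (by omega), hm]
    rw [Nat.gcd_eq_right ⟨2, by ring⟩]
    rw [← two_mul]; exact Nat.mul_div_cancel _ hm0
  refine ⟨(s * t) ^ m, hc2, ?_, ?_⟩
  · have h1 := conj_pow_prod hs ht m
    rw [inv_of_orderOf_two hc2] at h1
    rw [mul_inv_eq_iff_eq_mul] at h1
    exact h1.symm
  · have h1 := conj_pow_prod' hs ht m
    rw [inv_of_orderOf_two hc2] at h1
    rw [mul_inv_eq_iff_eq_mul] at h1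
    exact h1.symm

end dih

/-! ### 2-groups -/

theorem exists_inv_of_ne_bot {G : Type*} [Group G] [Finite G] {P : Subgroup G} (hP : IsPGroup 2 P)
    (h : P ≠ ⊥) : ∃ x ∈ P, orderOf x = 2 := by
  haveI : Fact (Nat.Prime 2) := ⟨Nat.prime_two⟩
  have h2 : 2 ∣ Nat.card P := by
    obtain ⟨n, hn⟩ := IsPGroup.iff_card.1 hP
    rcases Nat.eq_zero_or_pos n with h0 | h0
    · subst h0
      rw [pow_zero] at hn
      exact absurd (Subgroup.card_eq_one.1 hn) h
    · rw [hn]; exact dvd_pow_self 2 h0.ne'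
  obtain ⟨x, hx⟩ := exists_prime_orderOf_dvd_card' 2 h2
  exact ⟨x, x.2, by rw [← hx, Subgroup.orderOf_coe]⟩

/-- a nontrivial `2`-group has an involution in its centre -/
theorem exists_central_inv {G : Type*} [Group G] [Finite G] {P : Subgroup G} (hP : IsPGroup 2 P)
    (h : P ≠ ⊥) : ∃ x ∈ OZ P, orderOf x = 2 := by
  haveI : Fact (Nat.Prime 2) := ⟨Nat.prime_two⟩
  haveI : Nontrivial P := (Subgroup.nontrivial_iff_ne_bot P).2 h
  have hc : Nontrivial (Subgroup.center P) := hP.center_nontrivial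
  have hcp : IsPGroup 2 (Subgroup.center P) := hP.to_subgroup _
  obtain ⟨x, hx, hx2⟩ := exists_inv_of_ne_bot (G := P) (P := Subgroup.center P) hcp
    ((Subgroup.nontrivial_iff_ne_bot _).1 hc)
  refine ⟨x, ⟨x.2, ?_, ?_⟩, by rw [← hx2, Subgroup.orderOf_coe]⟩
  · have := sq_of_orderOf_two hx2
    exact congrArg Subtype.val this
  · intro y hy
    have := Subgroup.mem_center_iff.1 hx ⟨y, hy⟩
    exact (congrArg Subtype.val this).symm

/-- in a `Sep` group, the centraliser of an involution is a `2`-group -/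
theorem sep_centralizer {G : Type*} [Group G] [Finite G] (hS : Sep G) {t : G} (ht : orderOf t = 2) :
    IsPGroup 2 (centralizer ({t} : Set G)) := by
  haveI : Fact (Nat.Prime 2) := ⟨Nat.prime_two⟩
  intro x
  have hx0 : orderOf (x : G) ≠ 0 := (orderOf_pos _).ne'
  obtain ⟨k, m, hm, hkm⟩ := Nat.exists_eq_two_pow_mul_odd hx0
  have h1 : (x : G) ^ (2 ^ k) = 1 := by
    apply hS _ t ht
    · have : orderOf ((x : G) ^ (2 ^ k)) = m := by
        rw [orderOf_pow' _ (pow_ne_zero _ two_ne_zero), hkm, Nat.gcd_eq_right ⟨m, rfl⟩]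
        exact Nat.mul_div_cancel_left _ (pow_pos two_pos _)
      rw [this]; exact hm
    · have hc : (x : G) * t = t * x := mem_centralizer_singleton_iff.1 x.2
      exact ((Commute.pow_left hc _) : Commute ((x : G) ^ (2 ^ k)) t)
  exact ⟨k, Subtype.ext (by rw [Subgroup.coe_pow, h1]; rfl)⟩

/-- converse: in a `Sep` group, an odd-order element centralising a nontrivial 2-subgroup is trivial -/
theorem sep_eq_one {G : Type*} [Group G] [Finite G] (hS : Sep G) {Q : Subgroup G} (hQ : IsPGroup 2 Q)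
    (hQ1 : Q ≠ ⊥) {x : G} (hx : Odd (orderOf x)) (hc : ∀ y ∈ Q, x * y = y * x) : x = 1 := by
  obtain ⟨t, htQ, ht⟩ := exists_inv_of_ne_bot hQ hQ1
  exact hS x t ht hx (hc t htQ)

/-! ### `Sep` groups with TI Sylow 2-subgroups -/

section ti

variable {H : Type u} [Group H] [Finite H] (hS : Sep H)
  (hTI : ∀ P Q : Sylow 2 H, P ≠ Q → (P : Subgroup H) ⊓ Q = ⊥)

include hTI in
theorem smul_eq_of_mem {P : Sylow 2 H} {g x : H} (hx : x ∈ (P : Subgroup H)) (hx1 : x ≠ 1)
    (hgx : g⁻¹ * x * g ∈ (P : Subgroup H)) : g • P = P := by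
  by_contra hcon
  have h := hTI _ _ hcon
  apply hx1
  rw [← Subgroup.mem_bot, ← h]
  refine ⟨?_, hx⟩
  change x ∈ ((g • P : Sylow 2 H) : Subgroup H)
  rw [Sylow.coe_subgroup_smul, Subgroup.mem_pointwise_smul_iff_inv_smul_mem]
  simpa [MulAut.smul_def] using hgx

theorem mem_of_two_of_normalizer {P : Sylow 2 H} {c : H}
    (hc : c ∈ normalizer ((P : Subgroup H) : Set H)) {k : ℕ} (h2 : c ^ (2 ^ k) = 1) :
    c ∈ (P : Subgroup H) := by
  haveI : Fact (Nat.Prime 2) := ⟨Nat.prime_two⟩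
  have hs : IsSyl 2 (P : Subgroup H) (normalizer ((P : Subgroup H) : Set H)) :=
    (isSyl_top P).of_le_of_le le_normalizer le_top
  have hz : IsPGroup 2 (zpowers c) := by
    intro y
    obtain ⟨n, hn⟩ := mem_zpowers_iff.1 y.2
    refine ⟨k, Subtype.ext ?_⟩
    rw [Subgroup.coe_pow, ← hn, ← zpow_natCast, ← zpow_mul, mul_comm, zpow_mul, zpow_natCast, h2,
      one_zpow]; rfl
  exact hs.le_of_normal le_rfl hz (by rwa [zpowers_le]) (mem_zpowers c)

include hS hTI in
/-- the centraliser of an involution of `P` is contained in `P` -/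
theorem centralizer_le {P : Sylow 2 H} {t : H} (ht : orderOf t = 2) (htP : t ∈ (P : Subgroup H)) :
    centralizer ({t} : Set H) ≤ P := by
  intro c hc
  have ht1 : t ≠ 1 := by rintro rfl; simp at ht
  have hcomm : c * t = t * c := mem_centralizer_singleton_iff.1 hc
  have h1 : c⁻¹ * t * c ∈ (P : Subgroup H) := by
    have : c⁻¹ * t * c = t := by rw [mul_assoc, ← hcomm]; group
    rw [this]; exact htP
  have h2 := smul_eq_of_mem hTI htP ht1 h1
  have h3 : c ∈ normalizer ((P : Subgroup H) : Set H) := Sylow.smul_eq_iff_mem_normalizer.1 h2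
  obtain ⟨k, hk⟩ := sep_centralizer hS ht ⟨c, hc⟩
  exact mem_of_two_of_normalizer h3 (k := k) (congrArg Subtype.val hk)

include hS hTI in
theorem odd_of_ne {P Q : Sylow 2 H} (hPQ : P ≠ Q) {s t : H} (hs : orderOf s = 2) (ht : orderOf t = 2)
    (hsP : s ∈ (P : Subgroup H)) (htQ : t ∈ (Q : Subgroup H)) : Odd (orderOf (s * t)) := by
  by_contra hcon
  obtain ⟨c, hc2, hcs, hct⟩ := exists_central_of_even hs ht hcon
  have h1 : c ∈ (P : Subgroup H) := centralizer_le hS hTI hs hsP (mem_centralizer_singleton_iff.2 hcs)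
  have h2 : c ∈ (Q : Subgroup H) := centralizer_le hS hTI ht htQ (mem_centralizer_singleton_iff.2 hct)
  have h3 : c ∈ (P : Subgroup H) ⊓ Q := ⟨h1, h2⟩
  rw [hTI P Q hPQ, Subgroup.mem_bot] at h3
  rw [h3] at hc2; simp at hc2

theorem sylow_ne_bot (hne : ∃ P Q : Sylow 2 H, P ≠ Q) (P : Sylow 2 H) : (P : Subgroup H) ≠ ⊥ := by
  haveI : Fact (Nat.Prime 2) := ⟨Nat.prime_two⟩
  intro h
  obtain ⟨A, B, hAB⟩ := hne
  apply hAB
  have key : ∀ A : Sylow 2 H, (A : Subgroup H) = ⊥ := by
    intro A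
    rw [← Subgroup.card_eq_one, A.card_eq_multiplicity, ← P.card_eq_multiplicity, h, Subgroup.card_bot]
  exact Sylow.ext (by rw [key A, key B])

theorem exists_sylow_of_inv {t : H} (ht : orderOf t = 2) : ∃ P : Sylow 2 H, t ∈ (P : Subgroup H) := by
  haveI : Fact (Nat.Prime 2) := ⟨Nat.prime_two⟩
  have hz : IsPGroup 2 (zpowers t) := by
    apply IsPGroup.of_card (n := 1)
    rw [Nat.card_zpowers, ht, pow_one]
  obtain ⟨P, hP⟩ := hz.exists_le_sylow
  exact ⟨P, hP (mem_zpowers t)⟩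

include hS hTI in
theorem isConj_of_ti (hne : ∃ P Q : Sylow 2 H, P ≠ Q) {s t : H} (hs : orderOf s = 2)
    (ht : orderOf t = 2) : IsConj s t := by
  obtain ⟨P, hsP⟩ := exists_sylow_of_inv hs
  obtain ⟨Q, htQ⟩ := exists_sylow_of_inv ht
  by_cases hPQ : P = Q
  · subst hPQ
    obtain ⟨A, B, hAB⟩ := hne
    obtain ⟨R, hR⟩ : ∃ R : Sylow 2 H, R ≠ P := by
      by_cases h : A = P
      · exact ⟨B, fun hB => hAB (h.trans hB.symm)⟩
      · exact ⟨A, h⟩
    obtain ⟨r, hrR, hr⟩ := exists_inv_of_ne_bot R.2 (sylow_ne_bot ⟨A, B, hAB⟩ R)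
    exact (isConj_of_odd hs hr (odd_of_ne hS hTI (Ne.symm hR) hs hr hsP hrR)).trans
      (isConj_of_odd hr ht (odd_of_ne hS hTI hR hr ht hrR htQ))
  · exact isConj_of_odd hs ht (odd_of_ne hS hTI hPQ hs ht hsP htQ)

include hS hTI in
/-- every involution of `P` is central in `P`, and `N(P)` is transitive on them -/
theorem inv_central (hne : ∃ P Q : Sylow 2 H, P ≠ Q) (P : Sylow 2 H) {x : H}
    (hxP : x ∈ (P : Subgroup H)) (hx : x * x = 1) : x ∈ OZ (P : Subgroup H) := by
  by_cases hx1 : x = 1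
  · rw [hx1]; exact (OZ (P : Subgroup H)).one_mem
  have hx2 : orderOf x = 2 := orderOf_eq_prime (by rw [pow_two]; exact hx) hx1
  obtain ⟨z, hzZ, hz⟩ := exists_central_inv P.2 (sylow_ne_bot hne P)
  obtain ⟨h, hh⟩ := isConj_iff.1 (isConj_of_ti hS hTI hne hz hx2)
  have h1 : h⁻¹ * x * h ∈ (P : Subgroup H) := by
    rw [← hh]; simpa [mul_assoc] using hzZ.1
  have h2 := smul_eq_of_mem hTI hxP hx1 h1
  have h3 : h ∈ normalizer ((P : Subgroup H) : Set H) := Sylow.smul_eq_iff_mem_normalizer.1 h2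
  refine ⟨hxP, hx, fun y hy => ?_⟩
  have h4 : h⁻¹ * y * h ∈ (P : Subgroup H) := by
    have := (mem_normalizer_iff.1 ((normalizer _).inv_mem h3) y).1 hy
    simpa using this
  have h5 := hzZ.2.2 _ h4
  rw [← hh]
  calc h * z * h⁻¹ * y = h * (z * (h⁻¹ * y * h)) * h⁻¹ := by group
    _ = h * ((h⁻¹ * y * h) * z) * h⁻¹ := by rw [h5]
    _ = y * (h * z * h⁻¹) := by group

include hS hTI in
theorem centralizer_eq (hne : ∃ P Q : Sylow 2 H, P ≠ Q) (P : Sylow 2 H) {z : H}
    (hz : z ∈ OZ (P : Subgroup H)) (hz1 : z ≠ 1) : centralizer ({z} : Set H) = P := by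
  have hz2 : orderOf z = 2 := (IsEA_OZ _).orderOf hz hz1
  apply le_antisymm (centralizer_le hS hTI hz2 hz.1)
  intro y hy
  exact mem_centralizer_singleton_iff.2 (hz.2.2 y hy).symm

theorem mem_of_conj_eq {H : Type*} [Group H] {P : Subgroup H} {z y h n : H}
    (hcen : centralizer ({z} : Set H) = P) (hn : n * z * n⁻¹ = y) (hh : h * z * h⁻¹ = y) :
    h⁻¹ * n ∈ P := by
  rw [← hcen, mem_centralizer_singleton_iff]
  have e : n * z = y * n := by rw [← hn]; group
  calc h⁻¹ * n * z = h⁻¹ * (n * z) := by group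
    _ = h⁻¹ * (y * n) := by rw [e]
    _ = h⁻¹ * (h * z * h⁻¹ * n) := by rw [hh]
    _ = z * (h⁻¹ * n) := by group


include hS hTI in
theorem ti_struct (hne : ∃ P Q : Sylow 2 H, P ≠ Q) (P : Sylow 2 H) :
    ∃ q c : ℕ, 2 ≤ q ∧ 1 ≤ c ∧ Nat.card (OZ (P : Subgroup H)) = q ∧
      (∀ x ∈ (P : Subgroup H), x * x = 1 → x ∈ OZ (P : Subgroup H)) ∧
      Nat.card (normalizer ((P : Subgroup H) : Set H)) = Nat.card P * (q - 1) ∧
      Nat.card (Sylow 2 H) = 1 + c * Nat.card P ∧
      (∀ s t : H, orderOf s = 2 → orderOf t = 2 → IsConj s t) := by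
  haveI : Fact (Nat.Prime 2) := ⟨Nat.prime_two⟩
  classical
  obtain ⟨z, hzZ, hz⟩ := exists_central_inv P.2 (sylow_ne_bot hne P)
  have hz1 : z ≠ 1 := by rintro rfl; simp at hz
  have hq2 : 2 ≤ Nat.card (OZ (P : Subgroup H)) := by
    have : Nontrivial (OZ (P : Subgroup H)) := ⟨⟨⟨z, hzZ⟩, 1, fun h => hz1 (congrArg Subtype.val h)⟩⟩
    exact Finite.one_lt_card
  -- number of Sylows
  have hfree : Nat.card (P : Subgroup H) ∣ Nat.card {Q : Sylow 2 H // Q ≠ P} := by
    letI : MulAction (P : Subgroup H) {Q : Sylow 2 H // Q ≠ P} :=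
      { smul := fun g Q => ⟨(g : H) • (Q : Sylow 2 H), fun h => Q.2 (by
          have : (g : H)⁻¹ • ((g : H) • (Q : Sylow 2 H)) = (g : H)⁻¹ • P := by rw [h]
          rw [inv_smul_smul] at this
          rw [this]
          exact Sylow.smul_eq_iff_mem_normalizer.2 (le_normalizer ((P : Subgroup H).inv_mem g.2)))⟩
        one_smul := fun Q => Subtype.ext (one_smul H (Q : Sylow 2 H))
        mul_smul := fun g h Q => Subtype.ext (mul_smul (g : H) (h : H) (Q : Sylow 2 H)) }
    apply card_dvd_of_free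
    rintro ⟨Q, hQ⟩ ⟨g, hg⟩ hfix
    have h1 : g • Q = Q := congrArg Subtype.val hfix
    have h2 : g ∈ normalizer ((Q : Subgroup H) : Set H) := Sylow.smul_eq_iff_mem_normalizer.1 h1
    obtain ⟨k, hk⟩ := P.2 ⟨g, hg⟩
    have h3 : g ∈ (Q : Subgroup H) := mem_of_two_of_normalizer h2 (k := k) (congrArg Subtype.val hk)
    have h4 : g ∈ (P : Subgroup H) ⊓ Q := ⟨hg, h3⟩
    rw [hTI P Q (Ne.symm hQ), Subgroup.mem_bot] at h4
    exact Subtype.ext h4
  obtain ⟨c, hc⟩ := hfree
  have hcount : Nat.card (Sylow 2 H) = 1 + c * Nat.card P := by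
    have h1 : Nat.card {Q : Sylow 2 H // Q ≠ P} = Nat.card (Sylow 2 H) - 1 := by
      haveI := Fintype.ofFinite (Sylow 2 H)
      rw [Nat.card_eq_fintype_card, Nat.card_eq_fintype_card, Fintype.card_subtype_compl,
        Fintype.card_subtype_eq]
    have h2 : 0 < Nat.card (Sylow 2 H) := Nat.card_pos
    rw [hc] at h1
    have : Nat.card P * c = c * Nat.card P := mul_comm _ _
    omega
  have hc1 : 1 ≤ c := by
    rcases Nat.eq_zero_or_pos c with h0 | h0
    · exfalso
      rw [h0, zero_mul, add_zero] at hcount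
      have := (Nat.card_eq_one_iff_unique.1 hcount).1
      obtain ⟨A, B, hAB⟩ := hne
      exact hAB (Subsingleton.elim A B)
    · exact h0
  -- orbit of z under N(P)
  have hnorm : Nat.card (normalizer ((P : Subgroup H) : Set H)) =
      Nat.card P * (Nat.card (OZ (P : Subgroup H)) - 1) := by
    set N := normalizer ((P : Subgroup H) : Set H) with hN
    let f : N → {x : H // x ∈ OZ (P : Subgroup H) ∧ x ≠ 1} := fun n => ⟨(n : H) * z * (n : H)⁻¹, by
      have hm : (n : H) * z * (n : H)⁻¹ ∈ (P : Subgroup H) :=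
        (mem_normalizer_iff.1 n.2 z).1 hzZ.1
      refine ⟨inv_central hS hTI hne P hm ?_, ?_⟩
      · have := hzZ.2.1
        calc (n : H) * z * (n : H)⁻¹ * ((n : H) * z * (n : H)⁻¹) = (n : H) * (z * z) * (n : H)⁻¹ := by group
          _ = 1 := by rw [this]; group
      · intro h
        apply hz1
        have : z = (n : H)⁻¹ * ((n : H) * z * (n : H)⁻¹) * (n : H) := by group
        rw [this, h]; group⟩
    have hfib : ∀ y : {x : H // x ∈ OZ (P : Subgroup H) ∧ x ≠ 1},
        Nat.card {n : N // f n = y} = Nat.card P := by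
      rintro ⟨y, hy, hy1⟩
      have hy2 : orderOf y = 2 := (IsEA_OZ _).orderOf hy hy1
      obtain ⟨h, hh⟩ := isConj_iff.1 (isConj_of_ti hS hTI hne hz hy2)
      have h1 : h⁻¹ * y * h ∈ (P : Subgroup H) := by
        rw [← hh]; simpa [mul_assoc] using hzZ.1
      have h3 : h ∈ N := Sylow.smul_eq_iff_mem_normalizer.1 (smul_eq_of_mem hTI hy.1 hy1 h1)
      have hcen := centralizer_eq hS hTI hne P hzZ hz1
      refine Nat.card_congr
        { toFun := fun n => ⟨h⁻¹ * (n.1 : H), ?_⟩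
          invFun := fun x => ⟨⟨h * (x : H), N.mul_mem h3 (le_normalizer x.2)⟩, ?_⟩
          left_inv := fun n => Subtype.ext (Subtype.ext (by simp))
          right_inv := fun x => Subtype.ext (by simp) }
      · have hn : (n.1 : H) * z * (n.1 : H)⁻¹ = y := congrArg Subtype.val n.2
        exact mem_of_conj_eq hcen hn hh
      · apply Subtype.ext
        change h * (x : H) * z * (h * (x : H))⁻¹ = y
        have hx : (x : H) * z = z * (x : H) := (hzZ.2.2 _ x.2).symm
        calc h * (x : H) * z * (h * (x : H))⁻¹ = h * ((x : H) * z) * (x : H)⁻¹ * h⁻¹ := by group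
          _ = h * z * h⁻¹ := by rw [hx]; group
          _ = y := hh
    haveI := Fintype.ofFinite {x : H // x ∈ OZ (P : Subgroup H) ∧ x ≠ 1}
    have e1 : Nat.card N = Nat.card (Σ y, {n : N // f n = y}) :=
      Nat.card_congr (Equiv.sigmaFiberEquiv f).symm
    rw [e1, Nat.card_sigma]
    rw [Finset.sum_congr rfl (fun y _ => hfib y), Finset.sum_const, Finset.card_univ, smul_eq_mul]
    rw [mul_comm]
    congr 1
    rw [← Nat.card_eq_fintype_card]
    have e2 : Nat.card {x : H // x ∈ OZ (P : Subgroup H) ∧ x ≠ 1} =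
        Nat.card {x : OZ (P : Subgroup H) // x ≠ 1} :=
      Nat.card_congr
        { toFun := fun x => ⟨⟨x.1, x.2.1⟩, fun h => x.2.2 (congrArg Subtype.val h)⟩
          invFun := fun x => ⟨x.1.1, x.1.2, fun h => x.2 (Subtype.ext h)⟩
          left_inv := fun _ => rfl
          right_inv := fun _ => rfl }
    rw [e2]
    haveI := Fintype.ofFinite (OZ (P : Subgroup H))
    rw [Nat.card_eq_fintype_card, Nat.card_eq_fintype_card, Fintype.card_subtype_compl,
      Fintype.card_subtype_eq]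
  exact ⟨_, c, hq2, hc1, rfl, fun x hx hx2 => inv_central hS hTI hne P hx hx2, hnorm, hcount,
    fun s t hs ht => isConj_of_ti hS hTI hne hs ht⟩

end ti

end Lead.CIT3
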