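import Mathlib
import Cfsg.Agent.Lib.Lead.CITM3
import Cfsg.Agent.Lib.H28.RelHall

set_option autoImplicit false

namespace Lead.CITQ

open Subgroup H28.Cj H28.RelSyl Lead.CIT Lead.CIT3

universe u

theorem sep_subgroup {G : Type*} [Group G] (hS : Sep G) (H : Subgroup G) : Sep H := by
  intro x t ht hx hxt
  have := hS (x : G) (t : G) (by rw [Subgroup.orderOf_coe]; exact ht)
    (by rw [Subgroup.orderOf_coe]; exact hx) (congrArg Subtype.val hxt)
  exact Subtype.ext this

theorem sep_equiv {G G' : Type*} [Group G] [Group G'] (hS : Sep G) (e : G ≃* G') : Sep G' := by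
  intro x t ht hx hxt
  have := hS (e.symm x) (e.symm t) (by rw [MulEquiv.orderOf_eq]; exact ht)
    (by rw [MulEquiv.orderOf_eq]; exact hx) (by rw [← map_mul, hxt, map_mul])
  simpa using this

section hom

variable {H Q : Type*} [Group H] [Finite H] [Group Q]

theorem card_comap (f : H →* Q) (hf : Function.Surjective f) (A : Subgroup Q) :
    Nat.card (A.comap f) = Nat.card A * Nat.card f.ker := by
  haveI : Finite Q := Finite.of_surjective f hf
  have h1 := index_comap_of_surjective A hf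
  have h2 := card_mul_index (A.comap f)
  have h3 := card_mul_index A
  have h4 := card_mul_index f.ker
  have h5 : f.ker.index = Nat.card Q := by
    rw [index_ker]
    rw [MonoidHom.range_eq_top.2 hf, Subgroup.card_top]
  have hpos : 0 < A.index := Nat.pos_of_ne_zero A.index_ne_zero_of_finite
  apply Nat.eq_of_mul_eq_mul_right hpos
  rw [← h1, h2, ← h4, h5, ← h3, h1]; ring

theorem isPGroup_ker_coset (f : H →* Q) (hK : IsPGroup 2 f.ker) {t : H} (ht : f t * f t = 1) :
    IsPGroup 2 (zpowers t) := by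
  haveI : Fact (Nat.Prime 2) := ⟨Nat.prime_two⟩
  have h1 : t * t ∈ f.ker := by rw [MonoidHom.mem_ker, map_mul, ht]
  obtain ⟨n, hn⟩ := hK ⟨t * t, h1⟩
  have h2 : t ^ (2 ^ (n + 1)) = 1 := by
    have := congrArg Subtype.val hn
    simp only [SubmonoidClass.mk_pow, OneMemClass.coe_one] at this
    rw [pow_succ, mul_comm, pow_mul, pow_two]; exact this
  intro y
  obtain ⟨m, hm⟩ := mem_zpowers_iff.1 y.2
  refine ⟨n + 1, Subtype.ext ?_⟩
  rw [SubmonoidClass.coe_pow, ← hm, ← zpow_natCast, ← zpow_mul, mul_comm, zpow_mul, zpow_natCast, h2,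
    one_zpow, OneMemClass.coe_one]

theorem sep_quotient (hS : Sep H) (f : H →* Q) (hf : Function.Surjective f)
    (hK : IsPGroup 2 f.ker) : Sep Q := by
  haveI : Fact (Nat.Prime 2) := ⟨Nat.prime_two⟩
  intro xb tb htb hxb hcomm
  by_contra hne
  obtain ⟨y, hy⟩ := hf xb
  have hy0 : orderOf y ≠ 0 := (orderOf_pos _).ne'
  obtain ⟨k, m, hm, hkm⟩ := Nat.exists_eq_two_pow_mul_odd hy0
  have ho : orderOf (y ^ (2 ^ k)) = m := by
    rw [orderOf_pow' _ (pow_ne_zero _ two_ne_zero), hkm, Nat.gcd_eq_right ⟨m, rfl⟩]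
    exact Nat.mul_div_cancel_left _ (by positivity)
  have h1 : y ^ (2 ^ k) ≠ 1 := by
    intro h
    apply hne
    have h2 : xb ^ (2 ^ k) = 1 := by rw [← hy, ← map_pow, h, map_one]
    have h3 : orderOf xb ∣ 2 ^ k := orderOf_dvd_of_pow_eq_one h2
    have h4 : Nat.Coprime (orderOf xb) (2 ^ k) := Nat.Coprime.pow_right _ (Nat.coprime_two_right.2 hxb)
    exact orderOf_eq_one_iff.1 (Nat.eq_one_of_dvd_coprimes h4 dvd_rfl h3)
  have hm1 : m ≠ 1 := by
    intro h
    rw [h] at ho
    exact h1 (orderOf_eq_one_iff.1 ho)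
  obtain ⟨p, hp, hpm⟩ := Nat.exists_prime_and_dvd hm1
  obtain ⟨r, hr⟩ := hpm
  haveI : Fact p.Prime := ⟨hp⟩
  have hp2 : p ≠ 2 := by
    rintro rfl
    rw [hr] at hm
    exact (Nat.not_even_iff_odd.2 hm) ⟨r, by ring⟩
  set x := (y ^ (2 ^ k)) ^ r with hx
  have hr0 : r ≠ 0 := by
    rintro rfl
    rw [mul_zero] at hr
    rw [hr] at hm
    exact (Nat.not_odd_zero) hm
  have hxo : orderOf x = p := by
    rw [hx, orderOf_pow' _ hr0, ho, hr, Nat.gcd_eq_right ⟨p, by ring⟩]
    exact Nat.mul_div_cancel _ (Nat.pos_of_ne_zero hr0)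
  have hfx : f x * tb = tb * f x := by
    have : f x = xb ^ (2 ^ k * r) := by rw [hx, ← pow_mul, map_pow, hy]
    rw [this]
    exact (Commute.pow_left (show Commute xb tb from hcomm) _).eq
  -- action of zpowers x on the fibre
  have hz : IsPGroup p (zpowers x) := by
    apply IsPGroup.of_card (n := 1)
    rw [Nat.card_zpowers, hxo, pow_one]
  have hzc : ∀ g ∈ zpowers x, f g * tb = tb * f g := by
    intro g hg
    obtain ⟨n, rfl⟩ := mem_zpowers_iff.1 hg
    rw [map_zpow]
    exact (Commute.zpow_left (show Commute (f x) tb from hfx) _).eq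
  let X := {t : H // f t = tb}
  letI : MulAction (zpowers x) X :=
    { smul := fun g t => ⟨(g : H) * t.1 * (g : H)⁻¹, by
        have h := hzc _ g.2
        rw [map_mul, map_mul, t.2, h, mul_assoc, ← map_mul, mul_inv_cancel, map_one, mul_one]⟩
      one_smul := fun t => Subtype.ext (by change ((1 : zpowers x) : H) * t.1 * ((1 : zpowers x) : H)⁻¹ = t.1; simp)
      mul_smul := fun g h t => Subtype.ext (by
        change ((g * h : zpowers x) : H) * t.1 * ((g * h : zpowers x) : H)⁻¹ =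
          (g : H) * ((h : H) * t.1 * (h : H)⁻¹) * (g : H)⁻¹
        rw [Subgroup.coe_mul]; group) }
  obtain ⟨t0, ht0⟩ := hf tb
  have hcard : Nat.card X = Nat.card f.ker := by
    refine Nat.card_congr
      { toFun := fun t => ⟨t0⁻¹ * t.1, by rw [MonoidHom.mem_ker, map_mul, map_inv, t.2, ht0]; group⟩
        invFun := fun s => ⟨t0 * s.1, by rw [map_mul, (MonoidHom.mem_ker).1 s.2, mul_one, ht0]⟩
        left_inv := fun t => Subtype.ext (by simp)
        right_inv := fun s => Subtype.ext (by simp) }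
  have hnd : ¬ p ∣ Nat.card X := by
    rw [hcard]
    obtain ⟨n, hn⟩ := IsPGroup.iff_card.1 hK
    rw [hn]
    intro h
    exact hp2 ((Nat.prime_dvd_prime_iff_eq hp Nat.prime_two).1 (hp.dvd_of_dvd_pow h))
  obtain ⟨t, ht⟩ := hz.nonempty_fixed_point_of_prime_not_dvd_card X hnd
  have hfix : x * t.1 * x⁻¹ = t.1 := congrArg Subtype.val (ht ⟨x, mem_zpowers x⟩)
  have htb1 : tb ≠ 1 := by rintro rfl; simp at htb
  have ht1 : t.1 ≠ 1 := by
    intro h
    apply htb1
    rw [← t.2, h, map_one]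
  have htb2 : tb * tb = 1 := sq_of_orderOf_two htb
  have h2 : IsPGroup 2 (zpowers t.1) := isPGroup_ker_coset f hK (by rw [t.2]; exact htb2)
  have h3 : zpowers t.1 ≠ ⊥ := by rw [Ne, zpowers_eq_bot]; exact ht1
  have hodd : Odd (orderOf x) := by rw [hxo]; exact hp.odd_of_ne_two hp2
  have hx1 : x = 1 := by
    apply sep_eq_one hS h2 h3 hodd
    intro g hg
    obtain ⟨n, rfl⟩ := mem_zpowers_iff.1 hg
    have : Commute x t.1 := by
      rw [mul_inv_eq_iff_eq_mul] at hfix; exact hfix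
    exact (this.zpow_right n).eq
  rw [hx1, orderOf_one] at hxo
  exact hp.one_lt.ne hxo

theorem ti_struct_hom (hS : Sep H) (f : H →* Q) (hf : Function.Surjective f) (hK : IsPGroup 2 f.ker)
    (hTI : ∀ P P' : Sylow 2 H, P ≠ P' → (P : Subgroup H) ⊓ P' ≤ f.ker)
    (hne : ∃ P P' : Sylow 2 H, P ≠ P') (P : Sylow 2 H) :
    ∃ q c r : ℕ, ∃ O : Subgroup H, 2 ≤ q ∧ 1 ≤ c ∧ f.ker ≤ O ∧ O ≤ P ∧
      Nat.card O = q * Nat.card f.ker ∧ (∀ x ∈ (P : Subgroup H), x * x ∈ f.ker → x ∈ O) ∧
      Nat.card P = r * Nat.card f.ker ∧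
      Nat.card (normalizer ((P : Subgroup H) : Set H)) = Nat.card P * (q - 1) ∧
      (normalizer ((P : Subgroup H) : Set H)).index = 1 + c * r := by
  haveI : Fact (Nat.Prime 2) := ⟨Nat.prime_two⟩
  haveI : Finite Q := Finite.of_surjective f hf
  have hQ := sep_quotient hS f hf hK
  have hle : ∀ A : Sylow 2 Q, (A : Subgroup Q) ≤ f.range := by
    intro A; rw [MonoidHom.range_eq_top.2 hf]; exact le_top
  let cm : Sylow 2 Q → Sylow 2 H := fun A => A.comapOfKerIsPGroup f hK (hle A)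
  have hcm : ∀ A, ((cm A : Sylow 2 H) : Subgroup H) = (A : Subgroup Q).comap f := fun A => rfl
  have hker : ∀ P : Sylow 2 H, f.ker ≤ (P : Subgroup H) := fun P => hK.le_sylow_of_normal P
  let mp : Sylow 2 H → Sylow 2 Q := fun P => P.mapSurjective hf
  have hmp : ∀ P, ((mp P : Sylow 2 Q) : Subgroup Q) = (P : Subgroup H).map f := fun P => rfl
  have hcmmp : ∀ P, cm (mp P) = P := by
    intro P
    apply Sylow.ext
    rw [hcm, hmp, comap_map_eq, sup_eq_left.2 (hker P)]
  have hTI' : ∀ A B : Sylow 2 Q, A ≠ B → (A : Subgroup Q) ⊓ B = ⊥ := by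
    intro A B hAB
    rw [eq_bot_iff]
    rintro x ⟨hxA, hxB⟩
    obtain ⟨y, rfl⟩ := hf x
    have h1 : cm A ≠ cm B := by
      intro h
      apply hAB
      apply Sylow.ext
      have := congrArg (fun P : Sylow 2 H => (P : Subgroup H)) h
      simp only [hcm] at this
      exact comap_injective hf this
    have h2 := hTI _ _ h1 (show y ∈ ((cm A : Subgroup H) ⊓ cm B) from ⟨hxA, hxB⟩)
    rw [Subgroup.mem_bot]; exact h2
  have hne' : ∃ A B : Sylow 2 Q, A ≠ B := by
    obtain ⟨P, P', h⟩ := hne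
    exact ⟨mp P, mp P', fun h' => h (by rw [← hcmmp P, ← hcmmp P', h'])⟩
  obtain ⟨q, c, hq, hc, hOZ, hinv, hnorm, hcount, -⟩ := ti_struct hQ hTI' hne' (mp P)
  have hPc : (P : Subgroup H) = (mp P : Subgroup Q).comap f := by
    rw [← hcm, hcmmp]
  refine ⟨q, c, Nat.card (mp P), (OZ (mp P : Subgroup Q)).comap f, hq, hc, ?_, ?_, ?_, ?_, ?_, ?_, ?_⟩
  · intro x hx
    rw [mem_comap, (MonoidHom.mem_ker).1 hx]; exact one_mem _
  · rw [hPc]; exact comap_mono (OZ_le _)
  · rw [card_comap f hf, hOZ]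
  · intro x hx hxx
    apply hinv
    · exact mem_map_of_mem f hx
    · rw [← map_mul]; exact hxx
  · conv_lhs => rw [show (Nat.card P) = Nat.card (P : Subgroup H) from rfl, hPc]
    exact card_comap f hf _
  · have h1 : normalizer ((P : Subgroup H) : Set H) = (normalizer ((mp P : Subgroup Q) : Set Q)).comap f := by
      rw [comap_normalizer_eq_of_surjective _ hf, ← hPc]
    rw [h1, card_comap f hf, hnorm]
    have h2 : Nat.card P = Nat.card (mp P) * Nat.card f.ker := by
      conv_lhs => rw [show (Nat.card P) = Nat.card (P : Subgroup H) from rfl, hPc]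
      exact card_comap f hf _
    rw [h2]; ring
  · have h1 : normalizer ((P : Subgroup H) : Set H) = (normalizer ((mp P : Subgroup Q) : Set Q)).comap f := by
      rw [comap_normalizer_eq_of_surjective _ hf, ← hPc]
    rw [h1, index_comap_of_surjective _ hf]
    exact (Sylow.card_eq_index_normalizer (mp P)).symm.trans hcount

end hom

/-- relative form inside a group `G` -/
theorem ti_struct_mod {G : Type*} [Group G] [Finite G] (hS : Sep G) {D H : Subgroup G} (hDH : D ≤ H)
    (hn : H ≤ normalizer (D : Set G)) (hD2 : IsPGroup 2 D) (hTI : TIMod D H) {P P' : Subgroup G}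
    (hP : IsSyl 2 P H) (hP' : IsSyl 2 P' H) (hne : P ≠ P') :
    ∃ q c r : ℕ, ∃ O : Subgroup G, 2 ≤ q ∧ 1 ≤ c ∧ q ≤ r ∧ (∃ k, q = 2 ^ k) ∧ D ≤ O ∧ O ≤ P ∧
      Nat.card O = q * Nat.card D ∧ (∀ x ∈ P, x * x ∈ D → x ∈ O) ∧
      Nat.card P = r * Nat.card D ∧
      Nat.card (normalizer (P : Set G) ⊓ H : Subgroup G) = Nat.card P * (q - 1) ∧
      Nat.card H = Nat.card P * (q - 1) * (1 + c * r) := by
  haveI : Fact (Nat.Prime 2) := ⟨Nat.prime_two⟩
  haveI : (D.subgroupOf H).Normal := (normal_subgroupOf_iff_le_normalizer hDH).2 hn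
  let f : H →* H ⧸ (D.subgroupOf H) := QuotientGroup.mk' _
  have hf : Function.Surjective f := QuotientGroup.mk'_surjective _
  have hker : f.ker = D.subgroupOf H := QuotientGroup.ker_mk' _
  have hK : IsPGroup 2 f.ker := by rw [hker]; exact (isPGroup_subgroupOf hDH).2 hD2
  have hcardK : Nat.card f.ker = Nat.card D := by rw [hker]; exact card_subgroupOf hDH
  have hSH := sep_subgroup hS H
  have hsub : ∀ A B : Sylow 2 H, A ≠ B → (A : Subgroup H) ⊓ B ≤ f.ker := by
    intro A B hAB x hx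
    rw [hker, mem_subgroupOf]
    have h1 := hTI _ _ (isSyl_map A) (isSyl_map B) (by
      intro h
      apply hAB
      apply Sylow.ext
      exact map_injective H.subtype_injective h)
    exact h1 ⟨mem_map_of_mem _ hx.1, mem_map_of_mem _ hx.2⟩
  have hne' : ∃ A B : Sylow 2 H, A ≠ B := by
    refine ⟨hP.toSylow, hP'.toSylow, ?_⟩
    intro h
    apply hne
    rw [← hP.map_toSylow, ← hP'.map_toSylow, h]
  obtain ⟨q, c, r, O, hq, hc, hKO, hOP, hcO, hinO, hcP, hcN, hiN⟩ :=
    ti_struct_hom hSH f hf hK hsub hne' hP.toSylow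
  have hcP' : Nat.card hP.toSylow = Nat.card P := by
    change Nat.card (hP.toSylow : Subgroup H) = _
    rw [hP.coe_toSylow, card_subgroupOf hP.le]
  have hD0 : 0 < Nat.card D := Nat.card_pos
  have hqr : q ≤ r := by
    have h1 : Nat.card O ≤ Nat.card (hP.toSylow : Subgroup H) := Nat.card_le_card_of_injective _ (inclusion_injective hOP)
    have h2 : Nat.card (hP.toSylow : Subgroup H) = r * Nat.card f.ker := hcP
    rw [hcO, h2, hcardK] at h1
    exact Nat.le_of_mul_le_mul_right h1 hD0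
  have hqk : ∃ k, q = 2 ^ k := by
    have h1 : IsPGroup 2 O := hP.toSylow.2.to_le hOP
    obtain ⟨n, hn⟩ := IsPGroup.iff_card.1 h1
    rw [hn] at hcO
    obtain ⟨k, -, hk⟩ := (Nat.dvd_prime_pow Nat.prime_two).1 (Dvd.intro _ hcO.symm)
    exact ⟨k, hk⟩
  refine ⟨q, c, r, O.map H.subtype, hq, hc, hqr, hqk, ?_, ?_, ?_, ?_, ?_, ?_, ?_⟩
  · intro x hx
    exact ⟨⟨x, hDH hx⟩, hKO (by rw [hker, mem_subgroupOf]; exact hx), rfl⟩
  · rw [← hP.map_toSylow]; exact map_mono hOP
  · rw [card_map_subtype, hcO, hcardK]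
  · intro x hx hxx
    refine ⟨⟨x, hP.le hx⟩, hinO _ ?_ ?_, rfl⟩
    · rw [hP.coe_toSylow, mem_subgroupOf]; exact hx
    · rw [hker, mem_subgroupOf]; exact hxx
  · rw [← hcardK, ← hcP, hcP']
  · rw [← hcP', ← hcN, ← inf_comm, hP.coe_toSylow, ← subgroupOf_normalizer_eq hP.le]
    rw [← card_map_subtype, subgroupOf_map_subtype, inf_comm]
  · rw [← hcP', ← hcN, ← hiN, card_mul_index]

end Lead.CITQ
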