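import Mathlib
import Cfsg.Agent.Lib.Lead.CITQuot

set_option autoImplicit false

namespace Lead.CIT6

open Subgroup H28.Cj H28.RelSyl Lead.CIT Lead.CIT3 Lead.CITQ

variable {G : Type*} [Group G] [Finite G]

/-! ### basic tools -/

theorem centralizer_isPGroup (hS : Sep G) {U : Subgroup G} (hU : IsPGroup 2 U) (hU1 : U ≠ ⊥) :
    IsPGroup 2 (centralizer (U : Set G)) := by
  obtain ⟨t, htU, ht⟩ := exists_inv_of_ne_bot hU hU1
  exact (sep_centralizer hS ht).to_le (centralizer_le (Set.singleton_subset_iff.2 htU))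

theorem cj_OZ (g : G) (D : Subgroup G) : cj g (OZ D) = OZ (cj g D) := by
  ext x
  rw [mem_cj]
  constructor
  · rintro ⟨h1, h2, h3⟩
    refine ⟨mem_cj.2 h1, ?_, ?_⟩
    · have : g⁻¹ * x * g * (g⁻¹ * x * g) = g⁻¹ * (x * x) * g := by group
      rw [this] at h2
      have h4 : x * x = g * (g⁻¹ * (x * x) * g) * g⁻¹ := by group
      rw [h4, h2]; group
    · intro y hy
      have h4 := h3 _ (mem_cj.1 hy)
      have h5 : x * y = g * (g⁻¹ * x * g * (g⁻¹ * y * g)) * g⁻¹ := by group
      rw [h5, h4]; group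
  · rintro ⟨h1, h2, h3⟩
    refine ⟨mem_cj.1 h1, ?_, ?_⟩
    · have : g⁻¹ * x * g * (g⁻¹ * x * g) = g⁻¹ * (x * x) * g := by group
      rw [this, h2]; group
    · intro y hy
      have h4 := h3 _ (conj_mem_cj.2 hy)
      have h5 : g⁻¹ * x * g * y = g⁻¹ * (x * (g * y * g⁻¹)) * g := by group
      rw [h5, h4]; group

theorem normalizer_le_OZ (D : Subgroup G) :
    normalizer (D : Set G) ≤ normalizer ((OZ D : Subgroup G) : Set G) := by
  intro g hg
  rw [mem_normalizer_iff_cj] at hg ⊢
  rw [cj_OZ, hg]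

theorem OZ_ne_bot {D : Subgroup G} (hD2 : IsPGroup 2 D) (hD0 : D ≠ ⊥) : OZ D ≠ ⊥ := by
  obtain ⟨x, hx, hx2⟩ := exists_central_inv hD2 hD0
  intro h
  rw [h, Subgroup.mem_bot] at hx
  rw [hx] at hx2; simp at hx2

theorem le_cent_OZ (D : Subgroup G) : D ≤ centralizer ((OZ D : Subgroup G) : Set G) := by
  intro x hx
  rw [mem_centralizer_iff]
  intro y hy
  exact OZ_comm hy hx

theorem cent_OZ (hS : Sep G) {D : Subgroup G} (hD0 : D ≠ ⊥) (hD : IsO2 D (normalizer (D : Set G))) :
    centralizer ((OZ D : Subgroup G) : Set G) = D := by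
  haveI : Fact (Nat.Prime 2) := ⟨Nat.prime_two⟩
  have h2 := centralizer_isPGroup hS (hD.two.to_le (OZ_le D)) (OZ_ne_bot hD.two hD0)
  by_contra hne
  have hlt : D < centralizer ((OZ D : Subgroup G) : Set G) := lt_of_le_of_ne (le_cent_OZ D) (Ne.symm hne)
  have h3 := lt_inf_normalizer_of_isPGroup h2 hlt
  have h4 : centralizer ((OZ D : Subgroup G) : Set G) ⊓ normalizer (D : Set G) ≤ D := by
    apply hD.max _ inf_le_right
    · intro g hg
      rw [mem_normalizer_iff_cj, cj_inf, cj_centralizer, cj_OZ, cj_normalizer,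
        mem_normalizer_iff_cj.1 hg]
    · exact h2.to_le inf_le_left
  exact absurd h4 (not_le_of_gt h3)

theorem norm_OZ (hS : Sep G) {D : Subgroup G} (hD0 : D ≠ ⊥) (hD : IsO2 D (normalizer (D : Set G))) :
    normalizer ((OZ D : Subgroup G) : Set G) = normalizer (D : Set G) := by
  apply le_antisymm _ (normalizer_le_OZ D)
  intro g hg
  have h := cent_OZ hS hD0 hD
  rw [mem_normalizer_iff_cj] at hg ⊢
  conv_lhs => rw [← h]
  rw [cj_centralizer, hg, h]

theorem mem_sup_comm {X V : Subgroup G} (hc : ∀ x ∈ X, ∀ v ∈ V, x * v = v * x) {z : G}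
    (hz : z ∈ X ⊔ V) : ∃ x ∈ X, ∃ v ∈ V, x * v = z := by
  let W : Subgroup G :=
    { carrier := {z | ∃ x ∈ X, ∃ v ∈ V, x * v = z}
      one_mem' := ⟨1, one_mem _, 1, one_mem _, one_mul _⟩
      mul_mem' := by
        rintro _ _ ⟨x, hx, v, hv, rfl⟩ ⟨y, hy, w, hw, rfl⟩
        refine ⟨x * y, mul_mem hx hy, v * w, mul_mem hv hw, ?_⟩
        have := hc y hy v hv
        calc x * y * (v * w) = x * (y * v) * w := by group
          _ = x * (v * y) * w := by rw [this]
          _ = x * v * (y * w) := by group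
      inv_mem' := by
        rintro _ ⟨x, hx, v, hv, rfl⟩
        refine ⟨x⁻¹, inv_mem hx, v⁻¹, inv_mem hv, ?_⟩
        rw [hc _ (inv_mem hx) _ (inv_mem hv), mul_inv_rev] }
  have h : X ⊔ V ≤ W := sup_le (fun x hx => ⟨x, hx, 1, one_mem _, mul_one _⟩)
    (fun v hv => ⟨1, one_mem _, v, hv, one_mul _⟩)
  exact h hz

theorem mem_sup_norm {X V : Subgroup G} (hc : X ≤ normalizer (V : Set G)) {z : G}
    (hz : z ∈ X ⊔ V) : ∃ x ∈ X, ∃ v ∈ V, x * v = z := by
  let W : Subgroup G :=
    { carrier := {z | ∃ x ∈ X, ∃ v ∈ V, x * v = z}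
      one_mem' := ⟨1, one_mem _, 1, one_mem _, one_mul _⟩
      mul_mem' := by
        rintro _ _ ⟨x, hx, v, hv, rfl⟩ ⟨y, hy, w, hw, rfl⟩
        refine ⟨x * y, mul_mem hx hy, y⁻¹ * v * y * w, ?_, by group⟩
        apply mul_mem _ hw
        have := conj_mem_of_le_normalizer hc (inv_mem hy) hv
        rwa [inv_inv] at this
      inv_mem' := by
        rintro _ ⟨x, hx, v, hv, rfl⟩
        refine ⟨x⁻¹, inv_mem hx, x * v⁻¹ * x⁻¹, conj_mem_of_le_normalizer hc hx (inv_mem hv), ?_⟩
        group }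
  have h : X ⊔ V ≤ W := sup_le (fun x hx => ⟨x, hx, 1, one_mem _, mul_one _⟩)
    (fun v hv => ⟨1, one_mem _, v, hv, one_mul _⟩)
  exact h hz

theorem IsEA_sup {X V : Subgroup G} (hX : IsEA X) (hV : IsEA V)
    (hc : ∀ x ∈ X, ∀ v ∈ V, x * v = v * x) : IsEA (X ⊔ V) := by
  intro z hz
  obtain ⟨x, hx, v, hv, rfl⟩ := mem_sup_comm hc hz
  calc x * v * (x * v) = x * (v * x) * v := by group
    _ = x * (x * v) * v := by rw [hc x hx v hv]
    _ = (x * x) * (v * v) := by group
    _ = 1 := by rw [hX x hx, hV v hv, one_mul]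

/-- orbit counting for conjugation -/
theorem card_orbit_conj (K : Subgroup G) (v : G) :
    Nat.card {y : G // ∃ k ∈ K, k * v * k⁻¹ = y} *
      Nat.card (K ⊓ centralizer ({v} : Set G) : Subgroup G) = Nat.card K := by
  classical
  let f : K → {y : G // ∃ k ∈ K, k * v * k⁻¹ = y} := fun k => ⟨(k : G) * v * (k : G)⁻¹, k, k.2, rfl⟩
  have hfib : ∀ y, Nat.card {k : K // f k = y} =
      Nat.card (K ⊓ centralizer ({v} : Set G) : Subgroup G) := by
    rintro ⟨y, h, hh, rfl⟩
    refine Nat.card_congr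
      { toFun := fun n => ⟨h⁻¹ * (n.1 : G), ?_, ?_⟩
        invFun := fun x => ⟨⟨h * (x : G), K.mul_mem hh x.2.1⟩, ?_⟩
        left_inv := fun n => Subtype.ext (Subtype.ext (by simp))
        right_inv := fun x => Subtype.ext (by simp) }
    · exact K.mul_mem (K.inv_mem hh) n.1.2
    · have hn : (n.1 : G) * v * (n.1 : G)⁻¹ = h * v * h⁻¹ := congrArg Subtype.val n.2
      change h⁻¹ * (n.1 : G) ∈ centralizer ({v} : Set G)
      rw [mem_centralizer_singleton_iff]
      calc h⁻¹ * (n.1 : G) * v = h⁻¹ * ((n.1 : G) * v * (n.1 : G)⁻¹) * (n.1 : G) := by group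
        _ = h⁻¹ * (h * v * h⁻¹) * (n.1 : G) := by rw [hn]
        _ = v * (h⁻¹ * (n.1 : G)) := by group
    · apply Subtype.ext
      change h * (x : G) * v * (h * (x : G))⁻¹ = h * v * h⁻¹
      have hx : (x : G) * v = v * (x : G) := mem_centralizer_singleton_iff.1 x.2.2
      calc h * (x : G) * v * (h * (x : G))⁻¹ = h * ((x : G) * v) * (x : G)⁻¹ * h⁻¹ := by group
        _ = h * v * h⁻¹ := by rw [hx]; group
  haveI := Fintype.ofFinite {y : G // ∃ k ∈ K, k * v * k⁻¹ = y}
  have e1 : Nat.card K = Nat.card (Σ y, {n : K // f n = y}) :=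
    Nat.card_congr (Equiv.sigmaFiberEquiv f).symm
  rw [e1, Nat.card_sigma, Finset.sum_congr rfl (fun y _ => hfib y), Finset.sum_const,
    Finset.card_univ, smul_eq_mul, Nat.card_eq_fintype_card]

/-- an involution acting on an elementary abelian group centralises at least the square root -/
theorem card_le_sq {V : Subgroup G} (hV : IsEA V) {a : G} (ha : ∀ v ∈ V, a * a * v = v * (a * a))
    (han : ∀ v ∈ V, a * v * a⁻¹ ∈ V) :
    Nat.card V ≤ Nat.card (V ⊓ centralizer ({a} : Set G) : Subgroup G) ^ 2 := by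
  let φ : V →* G :=
    { toFun := fun v => (v : G) * (a * (v : G) * a⁻¹)
      map_one' := by simp
      map_mul' := by
        intro x y
        have h1 := hV.comm (han _ x.2) y.2
        change (x : G) * (y : G) * (a * ((x : G) * (y : G)) * a⁻¹) =
          (x : G) * (a * (x : G) * a⁻¹) * ((y : G) * (a * (y : G) * a⁻¹))
        calc (x : G) * (y : G) * (a * ((x : G) * (y : G)) * a⁻¹)
            = (x : G) * ((y : G) * (a * (x : G) * a⁻¹)) * (a * (y : G) * a⁻¹) := by group
          _ = (x : G) * ((a * (x : G) * a⁻¹) * (y : G)) * (a * (y : G) * a⁻¹) := by rw [h1]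
          _ = _ := by group }
  have hφ : ∀ v : V, φ v = (v : G) * (a * (v : G) * a⁻¹) := fun _ => rfl
  have h1 : Nat.card V = Nat.card φ.ker * Nat.card φ.range := by
    rw [← card_mul_index φ.ker, index_ker]
  have h2 : Nat.card φ.ker ≤ Nat.card (V ⊓ centralizer ({a} : Set G) : Subgroup G) := by
    refine Nat.card_le_card_of_injective (fun v => ⟨(v.1 : G), v.1.2, ?_⟩) ?_
    · have h3 : (v.1 : G) * (a * (v.1 : G) * a⁻¹) = 1 := v.2
      have h4 : (v.1 : G)⁻¹ = v.1 := hV.inv_eq v.1.2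
      have h5 : a * (v.1 : G) * a⁻¹ = (v.1 : G) := by
        rw [← h4]
        exact (eq_inv_of_mul_eq_one_right (by rw [h4]; exact h3))
      change (v.1 : G) ∈ centralizer ({a} : Set G)
      rw [mem_centralizer_singleton_iff]
      rw [mul_inv_eq_iff_eq_mul] at h5
      exact h5.symm
    · intro v w h
      exact Subtype.ext (Subtype.ext (congrArg (fun z => (z.1 : G)) h))
  have h3 : Nat.card φ.range ≤ Nat.card (V ⊓ centralizer ({a} : Set G) : Subgroup G) := by
    refine Nat.card_le_card_of_injective (fun v => ⟨(v.1 : G), ?_, ?_⟩) ?_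
    · obtain ⟨w, hw⟩ := v.2
      rw [← hw, hφ]
      exact V.mul_mem w.2 (han _ w.2)
    · obtain ⟨w, hw⟩ := v.2
      change (v.1 : G) ∈ centralizer ({a} : Set G)
      rw [← hw, hφ, mem_centralizer_singleton_iff]
      have h5 := ha _ w.2
      have h6 := hV.comm (han _ w.2) w.2
      calc (w : G) * (a * (w : G) * a⁻¹) * a = (w : G) * (a * (w : G) * a⁻¹) * a := rfl
        _ = (a * (w : G) * a⁻¹) * (w : G) * a := by rw [h6]
        _ = a * (w : G) * (a⁻¹ * ((w : G) * (a * a)) * a⁻¹) := by group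
        _ = a * (w : G) * (a⁻¹ * ((a * a) * (w : G)) * a⁻¹) := by rw [h5]
        _ = a * ((w : G) * (a * (w : G) * a⁻¹)) := by group
    · intro v w h
      exact Subtype.ext (congrArg (fun z => (z.1 : G)) h)
  rw [h1, pow_two]
  exact Nat.mul_le_mul h2 h3


theorem normal_le_syl {D P H : Subgroup G} (hP : IsSyl 2 P H) (hD2 : IsPGroup 2 D) (hDH : D ≤ H)
    (hn : H ≤ normalizer (D : Set G)) : D ≤ P := by
  haveI : Fact (Nat.Prime 2) := ⟨Nat.prime_two⟩
  obtain ⟨h, hh, hle⟩ := hP.exists_conj_ge hD2 hDH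
  rw [le_cj_iff, mem_normalizer_iff_cj.1 (hn (H.inv_mem hh))] at hle
  exact hle

/-- the action of a non-trivial 2-element on `OZ D` -/
theorem inf_cj_eq_bot (hS : Sep G) {D P P' : Subgroup G} 
    (hTI : TIMod D (normalizer (D : Set G))) (hP : IsSyl 2 P (normalizer (D : Set G)))
    (hP' : IsSyl 2 P' (normalizer (D : Set G))) (hne : P ≠ P') {a h : G} (haP : a ∈ P) (haD : a ∉ D)
    (hh : h ∈ normalizer (D : Set G)) (hPP : cj h P = P') {v : G} (hv : v * v = 1)
    (h1 : v * a = a * v) (h2 : v * (h * a * h⁻¹) = (h * a * h⁻¹) * v) : v = 1 := by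
  haveI : Fact (Nat.Prime 2) := ⟨Nat.prime_two⟩
  by_contra hv1
  have hv2 : orderOf v = 2 := orderOf_eq_prime (by rw [pow_two]; exact hv) hv1
  have hC := sep_centralizer hS hv2
  have hK : IsPGroup 2 (centralizer ({v} : Set G) ⊓ normalizer (D : Set G) : Subgroup G) :=
    hC.to_le inf_le_left
  obtain ⟨R, hR, hKR⟩ := exists_isSyl_ge hK inf_le_right
  have ha1 : a ∈ R := hKR ⟨mem_centralizer_singleton_iff.2 h1.symm, hP.le haP⟩
  have htN : h * a * h⁻¹ ∈ normalizer (D : Set G) := mul_mem (mul_mem hh (hP.le haP)) (inv_mem hh)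
  have ht1 : h * a * h⁻¹ ∈ R := hKR ⟨mem_centralizer_singleton_iff.2 h2.symm, htN⟩
  have htP' : h * a * h⁻¹ ∈ P' := by rw [← hPP]; exact conj_mem_cj.2 haP
  have htD : h * a * h⁻¹ ∉ D := by
    intro hd
    exact haD ((mem_normalizer_iff.1 hh a).2 hd)
  have e1 : R = P := by
    by_contra hne1
    exact haD (hTI R P hR hP hne1 ⟨ha1, haP⟩)
  have e2 : R = P' := by
    by_contra hne1
    exact htD (hTI R P' hR hP' hne1 ⟨ht1, htP'⟩)
  exact hne (e1.symm.trans e2)

/-- main computation -/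
theorem core (hS : Sep G) {D P A : Subgroup G} (hD0 : D ≠ ⊥)
    (hD : IsO2 D (normalizer (D : Set G))) (hTI : TIMod D (normalizer (D : Set G)))
    (hP : IsSyl 2 P (normalizer (D : Set G)))
    (hne : ∃ P', IsSyl 2 P' (normalizer (D : Set G)) ∧ P' ≠ P)
    (hA : IsMaxEA A P) (hAD : ¬ A ≤ D) :
    ∃ q : ℕ, 1 < q ∧ Nat.card (OZ D) = q ^ 2 ∧ Nat.card P = q * Nat.card D ∧
      Nat.card (OZ D ⊓ centralizer (P : Set G) : Subgroup G) = q ∧
      IsMaxEA ((A ⊓ D) ⊔ OZ D) P ∧ A ⊔ D = P ∧
      Nat.card (normalizer (D : Set G)) = Nat.card P * (q - 1) * (1 + q) ∧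
      (∀ a ∈ A, a ∉ D → OZ D ⊓ centralizer ({a} : Set G) ≤ centralizer (P : Set G)) := by
  haveI : Fact (Nat.Prime 2) := ⟨Nat.prime_two⟩
  obtain ⟨P', hP', hP'P⟩ := hne
  have hDP : D ≤ P := normal_le_syl hP hD.two hD.le hD.nor
  obtain ⟨q, c, r, O, hq, hc, hqr, hqk, hDO, hOP, hcO, hinO, hcP, hcN, hcH⟩ :=
    ti_struct_mod hS hD.le hD.nor hD.two hTI hP hP' (Ne.symm hP'P)
  set V := OZ D with hV
  have hVEA : IsEA V := IsEA_OZ D
  have hVD : V ≤ D := OZ_le D
  obtain ⟨h, hh, hPP⟩ := hP.exists_conj_eq hP'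
  have hNV : normalizer (D : Set G) ≤ normalizer (V : Set G) := normalizer_le_OZ D
  -- sizes
  have hsq : ∀ a ∈ P, a ∉ D → Nat.card (V ⊓ centralizer ({a} : Set G) : Subgroup G) ^ 2 ≤ Nat.card V := by
    intro a haP haD
    set Ca := V ⊓ centralizer ({a} : Set G) with hCa
    have h1 : Ca ⊓ cj h Ca = ⊥ := by
      rw [eq_bot_iff]
      rintro v ⟨hv1, hv2⟩
      rw [Subgroup.mem_bot]
      have hv3 := mem_cj.1 hv2
      apply inf_cj_eq_bot hS hTI hP hP' (Ne.symm hP'P) haP haD hh hPP.symm (hVEA v hv1.1)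
      · exact mem_centralizer_singleton_iff.1 hv1.2
      · have h4 : h⁻¹ * v * h * a = a * (h⁻¹ * v * h) := mem_centralizer_singleton_iff.1 hv3.2
        calc v * (h * a * h⁻¹) = h * (h⁻¹ * v * h * a) * h⁻¹ := by group
          _ = h * (a * (h⁻¹ * v * h)) * h⁻¹ := by rw [h4]
          _ = h * a * h⁻¹ * v := by group
    have h2 : cj h Ca ≤ V := by
      have h3 : cj h V = V := mem_normalizer_iff_cj.1 (hNV hh)
      rw [← h3]; exact cj_le_cj.2 inf_le_left
    have h3 : Ca ≤ normalizer ((cj h Ca : Subgroup G) : Set G) := by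
      apply le_normalizer_of_conj_mem
      intro g hg x hx
      have := hVEA.comm (inf_le_left (a := V) hg) (h2 hx)
      rw [this]; simpa using hx
    have h4 := H28.RelHall.card_sup_mul_card_inf h3
    rw [h1, Subgroup.card_bot, mul_one, card_cj] at h4
    rw [pow_two, ← h4]
    exact Subgroup.card_le_of_le (sup_le inf_le_left h2)
  have hge : ∀ a ∈ P, a * a = 1 → Nat.card V ≤ Nat.card (V ⊓ centralizer ({a} : Set G) : Subgroup G) ^ 2 := by
    intro a haP ha
    apply card_le_sq hVEA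
    · intro v _; rw [ha, one_mul, mul_one]
    · intro v hv
      exact conj_mem_of_le_normalizer hNV (hP.le haP) hv
  -- Z_P
  have hVbot : V ≠ ⊥ := OZ_ne_bot hD.two hD0
  have hZq : q ≤ Nat.card (V ⊓ centralizer (P : Set G) : Subgroup G) := by
    set ZP := V ⊓ centralizer (P : Set G) with hZP
    -- non-trivial
    have hZ1 : ∃ v ∈ ZP, v ≠ 1 := by
      have hX : IsPGroup 2 P := hP.isPGroup
      letI : MulAction P V :=
        { smul := fun g v => ⟨(g : G) * v * (g : G)⁻¹, conj_mem_of_le_normalizer hNV (hP.le g.2) v.2⟩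
          one_smul := fun v => Subtype.ext (by change ((1 : P) : G) * v.1 * ((1 : P) : G)⁻¹ = v.1; simp)
          mul_smul := fun g h v => Subtype.ext (by
            change ((g * h : P) : G) * v.1 * ((g * h : P) : G)⁻¹ =
              (g : G) * ((h : G) * v.1 * (h : G)⁻¹) * (g : G)⁻¹
            rw [Subgroup.coe_mul]; group) }
      have h2V : 2 ∣ Nat.card V := by
        obtain ⟨n, hn⟩ := IsPGroup.iff_card.1 hVEA.isPGroup
        rcases Nat.eq_zero_or_pos n with h0 | h0
        · exfalso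
          rw [h0, pow_zero] at hn
          exact hVbot (Subgroup.card_eq_one.1 hn)
        · rw [hn]; exact dvd_pow_self 2 h0.ne'
      have h1f : (1 : V) ∈ MulAction.fixedPoints P V := by
        intro g; apply Subtype.ext
        change (g : G) * ((1 : V) : G) * (g : G)⁻¹ = ((1 : V) : G)
        simp
      obtain ⟨b, hb, hb1⟩ := hX.exists_fixed_point_of_prime_dvd_card_of_fixed_point V h2V h1f
      refine ⟨b, ⟨b.2, ?_⟩, fun hb2 => hb1 (Subtype.ext hb2.symm)⟩
      change (b : G) ∈ centralizer (P : Set G)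
      rw [mem_centralizer_iff]
      intro g hg
      have h5 : g * (b : G) * g⁻¹ = b := congrArg Subtype.val (hb ⟨g, hg⟩)
      rw [mul_inv_eq_iff_eq_mul] at h5; exact h5
    obtain ⟨v, hvZ, hv1⟩ := hZ1
    have hv2 : orderOf v = 2 := hVEA.orderOf hvZ.1 hv1
    set K := normalizer (P : Set G) ⊓ normalizer (D : Set G) with hK
    have horb := card_orbit_conj K v
    have hst : K ⊓ centralizer ({v} : Set G) = P := by
      have h1 : IsPGroup 2 (K ⊓ centralizer ({v} : Set G) : Subgroup G) :=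
        (sep_centralizer hS hv2).to_le inf_le_right
      apply (hP.eq_of_le h1 _ (inf_le_left.trans inf_le_right))
      intro x hx
      refine ⟨⟨le_normalizer hx, hP.le hx⟩, ?_⟩
      change x ∈ centralizer ({v} : Set G)
      rw [mem_centralizer_singleton_iff]
      exact mem_centralizer_iff.1 hvZ.2 x hx
    rw [hst, hcN, mul_comm] at horb
    have h6 := Nat.eq_of_mul_eq_mul_left Nat.card_pos horb
    have h7 : Nat.card {y : G // ∃ k ∈ K, k * v * k⁻¹ = y} ≤ Nat.card ZP - 1 := by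
      have h8 : Nat.card {y : G // ∃ k ∈ K, k * v * k⁻¹ = y} ≤ Nat.card {y : ZP // y ≠ 1} := by
        refine Nat.card_le_card_of_injective (fun y => ⟨⟨y.1, ?_⟩, ?_⟩) ?_
        · obtain ⟨k, hk, hky⟩ := y.2
          rw [← hky]
          refine ⟨conj_mem_of_le_normalizer hNV hk.2 hvZ.1, ?_⟩
          change k * v * k⁻¹ ∈ centralizer (P : Set G)
          have h9 : cj k (centralizer (P : Set G)) = centralizer (P : Set G) := by
            rw [cj_centralizer, mem_normalizer_iff_cj.1 hk.1]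
          rw [← h9]
          exact conj_mem_cj.2 hvZ.2
        · intro hy
          obtain ⟨k, hk, hky⟩ := y.2
          have h9 : y.1 = 1 := congrArg Subtype.val hy
          apply hv1
          rw [h9] at hky
          have : v = k⁻¹ * (k * v * k⁻¹) * k := by group
          rw [this, hky]; group
        · intro y z hyz
          exact Subtype.ext (congrArg (fun w => (w.1 : G)) hyz)
      have h10 : Nat.card {y : ZP // y ≠ 1} = Nat.card ZP - 1 := by
        classical
        haveI := Fintype.ofFinite ZP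
        rw [Nat.card_eq_fintype_card, Nat.card_eq_fintype_card, Fintype.card_subtype_compl,
          Fintype.card_subtype_eq]
      rw [h10] at h8; exact h8
    have h11 : 0 < Nat.card ZP := Nat.card_pos
    rw [h6] at h7
    omega
  -- pick a
  obtain ⟨a, haA, haD⟩ : ∃ a ∈ A, a ∉ D := by
    by_contra hcon
    push_neg at hcon
    exact hAD hcon
  have haP : a ∈ P := hA.1 haA
  have haa : a * a = 1 := hA.2.1 a haA
  set X := A ⊓ D with hX
  have hXV : ∀ x ∈ X, ∀ v ∈ V, x * v = v * x := fun x hx v hv => (OZ_comm hv hx.2).symm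
  have hXN : X ≤ normalizer (V : Set G) := by
    apply le_normalizer_of_conj_mem
    intro g hg x hx
    rw [hXV g hg x hx]; simpa using hx
  have hsup := H28.RelHall.card_sup_mul_card_inf hXN
  have hXVA : X ⊓ V = A ⊓ V := by
    rw [hX, inf_assoc, inf_eq_right.2 hVD]
  rw [hXVA] at hsup
  have hXEA : IsEA (X ⊔ V) := IsEA_sup (hA.2.1.mono inf_le_left) hVEA hXV
  have hXP : X ⊔ V ≤ P := sup_le (inf_le_left.trans hA.1) (hVD.trans hDP)
  have hmax := hA.2.2 _ hXP hXEA
  have hAO : A ≤ O := fun x hx => hinO x (hA.1 hx) (by rw [hA.2.1 x hx]; exact one_mem _)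
  have hm : D.relIndex A ≤ q := by
    have h1 : D.relIndex A ≤ D.relIndex O := relIndex_le_of_le_right hAO (by
      intro h
      have h' := relIndex_mul_card hDO
      rw [h, zero_mul] at h'
      exact Nat.card_pos.ne h')
    have h2 : D.relIndex O * Nat.card D = Nat.card O := relIndex_mul_card hDO
    rw [hcO] at h2
    have h3 := Nat.eq_of_mul_eq_mul_right Nat.card_pos h2
    omega
  have hAc : D.relIndex A * Nat.card X = Nat.card A := by
    rw [← inf_relIndex_left]
    exact relIndex_mul_card inf_le_left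
  set m := D.relIndex A with hmdef
  set x := Nat.card X with hxdef
  have hAVa : A ⊓ V ≤ V ⊓ centralizer ({a} : Set G) := by
    rintro y ⟨hy1, hy2⟩
    exact ⟨hy2, mem_centralizer_singleton_iff.2 (hA.2.1.comm hy1 haA)⟩
  have hw := Subgroup.card_le_of_le hAVa
  have hZa : ∀ b ∈ P, V ⊓ centralizer (P : Set G) ≤ V ⊓ centralizer ({b} : Set G) := by
    intro b hb y hy
    exact ⟨hy.1, mem_centralizer_singleton_iff.2 (mem_centralizer_iff.1 hy.2 b hb).symm⟩
  have hzle := Subgroup.card_le_of_le (hZa a haP)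
  have hs1 := hsq a haP haD
  have hs2 := hge a haP haa
  set ca := Nat.card (V ⊓ centralizer ({a} : Set G) : Subgroup G) with hca
  set z := Nat.card (V ⊓ centralizer (P : Set G) : Subgroup G) with hz
  set w := Nat.card (A ⊓ V : Subgroup G) with hwdef
  set v := Nat.card V with hvdef
  set s := Nat.card (X ⊔ V : Subgroup G) with hsdef
  have hx0 : 0 < x := Nat.card_pos
  have hv : v = ca ^ 2 := le_antisymm hs2 hs1
  have hca0 : 0 < ca := Nat.card_pos
  rw [← hAc] at hmax
  have hvmw : v ≤ m * w := by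
    have h1 : x * v ≤ x * (m * w) := by
      rw [← hsup]
      calc s * w ≤ m * x * w := Nat.mul_le_mul_right _ hmax
        _ = x * (m * w) := by ring
    exact Nat.le_of_mul_le_mul_left h1 hx0
  have hcaq : ca ≤ q := by
    have h1 : ca * ca ≤ q * ca := by
      calc ca * ca = v := by rw [hv, pow_two]
        _ ≤ m * w := hvmw
        _ ≤ q * ca := Nat.mul_le_mul hm hw
    exact Nat.le_of_mul_le_mul_right h1 hca0
  have hcaq' : ca = q := by omega
  have hzq' : z = q := by omega
  have hv' : v = q ^ 2 := by rw [hv, hcaq']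
  have hq0 : 0 < q := by omega
  have hmq : m = q := by
    apply le_antisymm hm
    have h1 : q * q ≤ m * q := by
      calc q * q = v := by rw [hv', pow_two]
        _ ≤ m * w := hvmw
        _ ≤ m * q := Nat.mul_le_mul_left _ (by omega)
    exact Nat.le_of_mul_le_mul_right h1 hq0
  have hwq : w = q := by
    apply le_antisymm (by omega)
    have h1 : q * q ≤ q * w := by
      calc q * q = v := by rw [hv', pow_two]
        _ ≤ m * w := hvmw
        _ = q * w := by rw [hmq]
    exact Nat.le_of_mul_le_mul_left h1 hq0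
  have hs : s = q * x := by
    rw [hwq, hv'] at hsup
    have : s * q = (q * x) * q := by rw [hsup]; ring
    exact Nat.eq_of_mul_eq_mul_right hq0 this
  -- orbit of N on V - 1
  have hNorb : (q - 1) * (1 + c * r) ≤ q ^ 2 - 1 := by
    obtain ⟨u, hu, hu1⟩ : ∃ u ∈ V, u ≠ 1 := by
      by_contra hcon
      push_neg at hcon
      exact hVbot ((Subgroup.eq_bot_iff_forall _).2 hcon)
    have hu2 : orderOf u = 2 := hVEA.orderOf hu hu1
    have horb := card_orbit_conj (normalizer (D : Set G)) u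
    have h1 : IsPGroup 2 (normalizer (D : Set G) ⊓ centralizer ({u} : Set G) : Subgroup G) :=
      (sep_centralizer hS hu2).to_le inf_le_right
    have h2 := hP.le_card h1 inf_le_left
    have h3 : Nat.card {y : G // ∃ k ∈ normalizer (D : Set G), k * u * k⁻¹ = y} ≤ Nat.card V - 1 := by
      have h8 : Nat.card {y : G // ∃ k ∈ normalizer (D : Set G), k * u * k⁻¹ = y} ≤ Nat.card {y : V // y ≠ 1} := by
        refine Nat.card_le_card_of_injective (fun y => ⟨⟨y.1, ?_⟩, ?_⟩) ?_
        · obtain ⟨k, hk, hky⟩ := y.2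
          rw [← hky]
          exact conj_mem_of_le_normalizer hNV hk hu
        · intro hy
          obtain ⟨k, hk, hky⟩ := y.2
          have h9 : y.1 = 1 := congrArg Subtype.val hy
          apply hu1
          rw [h9] at hky
          have : u = k⁻¹ * (k * u * k⁻¹) * k := by group
          rw [this, hky]; group
        · intro y z hyz
          exact Subtype.ext (congrArg (fun w => (w.1 : G)) hyz)
      have h10 : Nat.card {y : V // y ≠ 1} = Nat.card V - 1 := by
        classical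
        haveI := Fintype.ofFinite V
        rw [Nat.card_eq_fintype_card, Nat.card_eq_fintype_card, Fintype.card_subtype_compl,
          Fintype.card_subtype_eq]
      rw [h10] at h8; exact h8
    set ob := Nat.card {y : G // ∃ k ∈ normalizer (D : Set G), k * u * k⁻¹ = y}
    set st := Nat.card (normalizer (D : Set G) ⊓ centralizer ({u} : Set G) : Subgroup G)
    have h4 : Nat.card P * ((q - 1) * (1 + c * r)) ≤ Nat.card P * ob := by
      rw [← mul_assoc, ← hcH, ← horb, mul_comm]
      exact Nat.mul_le_mul_right _ h2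
    have h5 := Nat.le_of_mul_le_mul_left h4 Nat.card_pos
    calc (q - 1) * (1 + c * r) ≤ ob := h5
      _ ≤ v - 1 := h3
      _ = q ^ 2 - 1 := by rw [hv']
  have hcr : c * r ≤ q := by
    have h1 : q ^ 2 - 1 = (q - 1) * (1 + q) := by
      obtain ⟨k, rfl⟩ := Nat.exists_eq_add_of_le hq
      have e1 : 2 + k - 1 = 1 + k := by omega
      rw [e1]
      have e2 : (2 + k) ^ 2 = (1 + k) * (1 + (2 + k)) + 1 := by ring
      rw [e2]; rfl
    rw [h1] at hNorb
    have h2 := Nat.le_of_mul_le_mul_left hNorb (by omega)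
    omega
  have hrq : r = q := by
    have : r ≤ c * r := Nat.le_mul_of_pos_left _ hc
    omega
  have hc1 : c = 1 := by
    rw [hrq] at hcr
    have h1 : c * q ≤ 1 * q := by rw [one_mul]; exact hcr
    have := Nat.le_of_mul_le_mul_right h1 hq0
    omega
  refine ⟨q, by omega, hv', by rw [hcP, hrq], hzq', ⟨hXP, hXEA, ?_⟩, ?_, ?_, ?_⟩
  · intro B hB hBE
    have := hA.2.2 B hB hBE
    rw [← hAc, hmq] at this
    change _ ≤ s
    rw [hs]; exact this
  · apply Subgroup.eq_of_le_of_card_ge (sup_le hA.1 hDP)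
    have h1 : A ≤ normalizer (D : Set G) := hA.1.trans hP.le
    have h2 := H28.RelHall.card_sup_mul_card_inf h1
    have h3 : Nat.card (A ⊔ D : Subgroup G) * x = (q * Nat.card D) * x := by
      change Nat.card (A ⊔ D : Subgroup G) * x = Nat.card A * Nat.card D at h2
      rw [h2, ← hAc, hmq]; ring
    have h4 := Nat.eq_of_mul_eq_mul_right hx0 h3
    rw [h4, hcP, hrq]
  · rw [hcH, hc1, hrq, one_mul]
  · intro b hbA hbD
    have hbP := hA.1 hbA
    have h1 := hsq b hbP hbD
    have h2 := hge b hbP (hA.2.1 b hbA)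
    have h3 : Nat.card (V ⊓ centralizer ({b} : Set G) : Subgroup G) = q := by
      have h4 : Nat.card (V ⊓ centralizer ({b} : Set G) : Subgroup G) ^ 2 = q ^ 2 := by
        rw [← hv']; exact le_antisymm h1 h2
      exact Nat.pow_left_injective (n := 2) (by norm_num) h4
    have h5 : V ⊓ centralizer (P : Set G) = V ⊓ centralizer ({b} : Set G) := by
      apply Subgroup.eq_of_le_of_card_ge (hZa b hbP)
      rw [h3]; exact hzq'.ge
    rw [← h5]; exact inf_le_right

theorem isMaxEA_cj {A P : Subgroup G} (hA : IsMaxEA A P) (g : G) : IsMaxEA (cj g A) (cj g P) := by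
  refine ⟨cj_le_cj.2 hA.1, ?_, ?_⟩
  · intro x hx
    have h := hA.2.1 _ (mem_cj.1 hx)
    calc x * x = g * (g⁻¹ * x * g * (g⁻¹ * x * g)) * g⁻¹ := by group
      _ = 1 := by rw [h]; group
  · intro B hB hBE
    rw [card_cj, ← card_cj g⁻¹ B]
    apply hA.2.2
    · rw [cj_le_iff, inv_inv]; exact hB
    · intro x hx
      have h := hBE _ (mem_cj.1 hx)
      rw [inv_inv] at h
      calc x * x = g⁻¹ * (g * x * g⁻¹ * (g * x * g⁻¹)) * g := by group
        _ = 1 := by rw [h]; group

theorem lemmaJ (hS : Sep G) {D P A : Subgroup G} (hD0 : D ≠ ⊥)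
    (hD : IsO2 D (normalizer (D : Set G))) (hTI : TIMod D (normalizer (D : Set G)))
    (hP : IsSyl 2 P (normalizer (D : Set G)))
    (hne : ∃ P', IsSyl 2 P' (normalizer (D : Set G)) ∧ P' ≠ P)
    (hA : IsMaxEA A P) (hAD : ¬ A ≤ D) :
    ∃ q : ℕ, Nat2 q (OZ D) ∧ centralizer ((OZ D : Subgroup G) : Set G) = D ∧
      normalizer ((OZ D : Subgroup G) : Set G) = normalizer (D : Set G) ∧
      IsMaxEA ((A ⊓ D) ⊔ OZ D) P ∧ A ⊔ D = P := by
  haveI : Fact (Nat.Prime 2) := ⟨Nat.prime_two⟩
  have hcD := cent_OZ hS hD0 hD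
  have hnD := norm_OZ hS hD0 hD
  obtain ⟨q, hq1, hcV, hcP, hcZ, hmax, hsup, hcN, hfix⟩ := core hS hD0 hD hTI hP hne hA hAD
  refine ⟨q, ?_, hcD, hnD, hmax, hsup⟩
  -- every Sylow has the same structure
  have hall : ∀ R : Subgroup G, IsSyl 2 R (normalizer (D : Set G)) →
      ∃ B : Subgroup G, IsMaxEA B R ∧ B ⊔ D = R ∧ Nat.card R = q * Nat.card D ∧
        Nat.card (OZ D ⊓ centralizer (R : Set G) : Subgroup G) = q ∧
        (∀ a ∈ B, a ∉ D → OZ D ⊓ centralizer ({a} : Set G) ≤ centralizer (R : Set G)) := by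
    intro R hR
    obtain ⟨g, hg, rfl⟩ := hP.exists_conj_eq hR
    have hgD : cj g D = D := mem_normalizer_iff_cj.1 hg
    have h1 : ¬ cj g A ≤ D := by
      rw [← hgD, cj_le_cj]; exact hAD
    have h2 : ∃ P', IsSyl 2 P' (normalizer (D : Set G)) ∧ P' ≠ cj g P := by
      obtain ⟨P', hP', hne'⟩ := hne
      exact ⟨cj g P', hP'.cj_of_mem hg, fun h => hne' (cj_injective g h)⟩
    obtain ⟨q', hq1', hcV', hcP', hcZ', -, hsup', -, hfix'⟩ :=
      core hS hD0 hD hTI hR h2 (isMaxEA_cj hA g) h1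
    have hqq : q' = q := by
      have h3 : q' ^ 2 = q ^ 2 := by rw [← hcV', hcV]
      exact Nat.pow_left_injective (n := 2) (by norm_num) h3
    subst hqq
    exact ⟨cj g A, isMaxEA_cj hA g, hsup', hcP', hcZ', hfix'⟩
  have hdec : ∀ {R B : Subgroup G}, IsSyl 2 R (normalizer (D : Set G)) → IsMaxEA B R → B ⊔ D = R →
      ∀ x ∈ R, ∃ a ∈ B, ∃ d ∈ D, a * d = x := by
    intro R B hR hB hBD x hx
    have h1 : B ≤ normalizer (D : Set G) := hB.1.trans hR.le
    rw [← hBD] at hx
    exact mem_sup_norm h1 hx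
  constructor
  · exact hq1
  · exact IsEA_OZ D
  · exact hcV
  · rw [hcD]; exact hD.two
  · intro R hR; rw [hcD]; rw [hnD] at hR
    exact normal_le_syl hR hD.two hD.le hD.nor
  · intro R hR; rw [hcD]; rw [hnD] at hR
    obtain ⟨B, -, -, h, -⟩ := hall R hR; exact h
  · intro R hR; rw [hnD] at hR
    obtain ⟨B, -, -, -, h, -⟩ := hall R hR; exact h
  · intro R hR x hx hxD v hv hxv
    rw [hnD] at hR; rw [hcD] at hxD
    obtain ⟨B, hB, hBD, -, -, h⟩ := hall R hR
    obtain ⟨a, ha, d, hd, rfl⟩ := hdec hR hB hBD x hx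
    have haD : a ∉ D := fun h' => hxD (mul_mem h' hd)
    apply h a ha haD
    refine ⟨hv, ?_⟩
    change v ∈ centralizer ({a} : Set G)
    rw [mem_centralizer_singleton_iff]
    have h1 : v * d = d * v := OZ_comm hv hd
    have h2 : a * v = a * d * v * d⁻¹ := by
      calc a * v = a * (v * d) * d⁻¹ := by group
        _ = a * (d * v) * d⁻¹ := by rw [h1]
        _ = a * d * v * d⁻¹ := by group
    rw [h2, hxv]; group
  · intro R hR x hx v hv
    have hR0 := hR
    rw [hnD] at hR
    obtain ⟨B, hB, hBD, -, -, h⟩ := hall R hR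
    obtain ⟨a, ha, d, hd, rfl⟩ := hdec hR hB hBD x hx
    have h1 : v * d = d * v := OZ_comm hv hd
    have haN : ∀ w ∈ OZ D, a * w * a⁻¹ ∈ OZ D := fun w hw =>
      conj_mem_of_le_normalizer (normalizer_le_OZ D) (hR.le (hB.1 ha)) hw
    have h2 : v * (a * d) * v⁻¹ * (a * d)⁻¹ = v * (a * v⁻¹ * a⁻¹) := by
      calc v * (a * d) * v⁻¹ * (a * d)⁻¹ = v * a * (d * v⁻¹) * d⁻¹ * a⁻¹ := by group
        _ = v * a * (v⁻¹ * d) * d⁻¹ * a⁻¹ := by
            have : d * v⁻¹ = v⁻¹ * d := by
              have e : v⁻¹ = v := (IsEA_OZ D).inv_eq hv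
              rw [e]; exact h1.symm
            rw [this]
        _ = v * (a * v⁻¹ * a⁻¹) := by group
    rw [h2, (IsEA_OZ D).inv_eq hv]
    by_cases haD : a ∈ D
    · have h3 : v * a = a * v := OZ_comm hv haD
      have h4 : v * (a * v * a⁻¹) = 1 := by
        rw [← h3, mul_inv_cancel_right]; exact IsEA_OZ D v hv
      rw [h4]; exact one_mem _
    · apply h a ha haD
      refine ⟨mul_mem hv (haN v hv), ?_⟩
      change v * (a * v * a⁻¹) ∈ centralizer ({a} : Set G)
      rw [mem_centralizer_singleton_iff]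
      have haa := hB.2.1 a ha
      have hai : a⁻¹ = a := hB.2.1.inv_eq ha
      have h3 := (IsEA_OZ D).comm hv (haN v hv)
      calc v * (a * v * a⁻¹) * a = (a * v * a⁻¹) * v * a := by rw [h3]
        _ = a * (v * (a⁻¹ * v * a)) := by group
        _ = a * (v * (a * v * a⁻¹)) := by rw [hai]
  · intro R hR z hz
    rw [hnD] at hR
    obtain ⟨hz1, hz2, hz3⟩ := hz
    have hVR : OZ D ≤ R := (OZ_le D).trans (normal_le_syl hR hD.two hD.le hD.nor)
    have hzD : z ∈ D := by
      rw [← hcD, mem_centralizer_iff]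
      intro y hy
      exact (hz3 y (hVR hy)).symm
    exact ⟨hzD, hz2, fun y hy => hz3 y (normal_le_syl hR hD.two hD.le hD.nor hy)⟩
  · intro R R' hR hR' hRR
    rw [hnD] at hR hR' ⊢
    set K := R ⊔ R' with hK
    have hKN : K ≤ normalizer (D : Set G) := sup_le hR.le hR'.le
    have hRK : IsSyl 2 R K := hR.of_le_of_le le_sup_left hKN
    have hRK' : IsSyl 2 R' K := hR'.of_le_of_le le_sup_right hKN
    have hDR : D ≤ R := normal_le_syl hR hD.two hD.le hD.nor
    have hsyl : ∀ T : Subgroup G, IsSyl 2 T K → IsSyl 2 T (normalizer (D : Set G)) := by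
      intro T hT
      exact isSyl_of_card_le hR hT.isPGroup (hT.le.trans hKN) (by rw [hT.card_eq_card hRK])
    have hTI' : TIMod D K := fun A B hA hB hAB => hTI A B (hsyl A hA) (hsyl B hB) hAB
    obtain ⟨q2, c2, r2, O, hq2, hc2, hqr2, -, hDO, hOR, hcO, hinO, hcR, hcNR, hcK⟩ :=
      ti_struct_mod hS (hDR.trans le_sup_left) hKN hD.two hTI' hRK hRK' hRR
    obtain ⟨B, hB, hBD, hcR', -, -⟩ := hall R hR
    have hr2 : r2 = q := by
      rw [hcR] at hcR'
      exact Nat.eq_of_mul_eq_mul_right Nat.card_pos hcR'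
    have hRO : R ≤ O := by
      intro x hx
      apply hinO x hx
      obtain ⟨a, ha, d, hd, rfl⟩ := hdec hR hB hBD x hx
      have haa := hB.2.1 a ha
      have h1 : a * d * a⁻¹ ∈ D := (mem_normalizer_iff.1 (hR.le (hB.1 ha)) d).1 hd
      have h2 : a * d * (a * d) = a * d * a⁻¹ * (a * a) * d := by group
      rw [h2, haa, mul_one]
      exact mul_mem h1 hd
    have hq2' : q2 = q := by
      have h1 : O = R := le_antisymm hOR hRO
      rw [h1, hcR] at hcO
      have := Nat.eq_of_mul_eq_mul_right Nat.card_pos hcO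
      omega
    apply Subgroup.eq_of_le_of_card_ge hKN
    rw [hcN, hcK, hq2', hr2, hR.card_eq_card hP]
    apply Nat.mul_le_mul_left
    have : q ≤ c2 * q := Nat.le_mul_of_pos_left _ hc2
    omega
  · obtain ⟨P', hP', hne'⟩ := hne
    rw [hnD]
    exact ⟨P, P', hP, hP', Ne.symm hne'⟩

end Lead.CIT6
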