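import Mathlib
import Cfsg.Agent.Lib.Lead.CITM6
import Cfsg.Agent.Lib.H36.CITM1
import Cfsg.Agent.Lib.H55.CITM2

/-! T-CIT assembly, part 1: radical 2-subgroups, Thompson subgroups. -/

set_option autoImplicit false
set_option linter.style.haveILetI false
set_option linter.unusedSectionVars false

namespace Lead.CITA

open Subgroup H28.Cj H28.RelSyl Lead.CIT Lead.CIT3 Lead.CITQ Lead.CIT6

universe u

variable {G : Type u} [Group G] [Finite G]

theorem exists_isO2 (N : Subgroup G) : ∃ D, IsO2 D N := by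
  haveI : Fact (Nat.Prime 2) := ⟨Nat.prime_two⟩
  obtain ⟨P₀, hP₀⟩ := exists_isSyl 2 N
  refine ⟨⨅ P : {P : Subgroup G // IsSyl 2 P N}, (P : Subgroup G), ?_, ?_, ?_, ?_⟩
  · exact (iInf_le (fun P : {P : Subgroup G // IsSyl 2 P N} => (P : Subgroup G)) ⟨P₀, hP₀⟩).trans hP₀.le
  · apply le_normalizer_of_conj_mem
    intro g hg x hx
    rw [mem_iInf] at hx ⊢
    rintro ⟨P, hP⟩
    have := hx ⟨cj g⁻¹ P, hP.cj_of_mem (inv_mem hg)⟩
    rw [mem_cj] at this; simpa using this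
  · exact hP₀.isPGroup.to_le
      (iInf_le (fun P : {P : Subgroup G // IsSyl 2 P N} => (P : Subgroup G)) ⟨P₀, hP₀⟩)
  · intro E hE hn h2
    exact le_iInf (fun P => normal_le_syl P.2 h2 hE hn)

/-- radical 2-subgroups -/
def Rad (D : Subgroup G) : Prop := D ≠ ⊥ ∧ IsO2 D (normalizer (D : Set G))

theorem eq_of_sum_le {A B A' B' : Subgroup G} (h1 : A ≤ A') (h2 : B ≤ B')
    (h : Nat.card A' + Nat.card B' ≤ Nat.card A + Nat.card B) : A = A' ∧ B = B' := by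
  have h3 := Subgroup.card_le_of_le h1
  have h4 := Subgroup.card_le_of_le h2
  exact ⟨Subgroup.eq_of_le_of_card_ge h1 (by omega), Subgroup.eq_of_le_of_card_ge h2 (by omega)⟩

theorem exists_rad {U : Subgroup G} (hU : IsPGroup 2 U) (hU1 : U ≠ ⊥) :
    ∃ D : Subgroup G, Rad D ∧ normalizer (U : Set G) ≤ normalizer (D : Set G) := by
  let X := {D : Subgroup G // D ≠ ⊥ ∧ IsPGroup 2 D ∧ normalizer (U : Set G) ≤ normalizer (D : Set G)}
  haveI : Nonempty X := ⟨⟨U, hU1, hU, le_rfl⟩⟩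
  obtain ⟨⟨D, hD1, hD2, hD3⟩, hmax⟩ := Finite.exists_max
    (fun D : X => Nat.card (normalizer ((D.1 : Subgroup G) : Set G)) + Nat.card (D.1 : Subgroup G))
  obtain ⟨E, hE⟩ := exists_isO2 (normalizer (D : Set G))
  have hDE : D ≤ E := hE.max D le_normalizer le_rfl hD2
  have hE1 : E ≠ ⊥ := fun h => hD1 (le_bot_iff.1 (h ▸ hDE))
  have h := hmax ⟨E, hE1, hE.two, hD3.trans hE.nor⟩
  obtain ⟨h1, h2⟩ := eq_of_sum_le hE.nor hDE h
  refine ⟨D, ⟨hD1, ?_⟩, hD3⟩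
  subst h2
  exact hE

theorem syl_eq_of_sup {P P' N : Subgroup G} (hP : IsSyl 2 P N) (hP' : IsSyl 2 P' N)
    (h : IsPGroup 2 (P ⊔ P' : Subgroup G)) : P = P' := by
  haveI : Fact (Nat.Prime 2) := ⟨Nat.prime_two⟩
  have h1 := hP.eq_of_le h le_sup_left (sup_le hP.le hP'.le)
  have h2 := hP'.eq_of_le h le_sup_right (sup_le hP.le hP'.le)
  exact h1.symm.trans h2

/-- a radical subgroup which is not 2-closed is determined by any 2-local overgroup -/
theorem rad_unique (hE : ∀ D : Subgroup G, Rad D → TIMod D (normalizer (D : Set G))) {W : Subgroup G}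
    (hW : IsPGroup 2 W) (hW1 : W ≠ ⊥) :
    ∃ E : Subgroup G, ∀ D, Rad D →
      (∃ P P', IsSyl 2 P (normalizer (D : Set G)) ∧ IsSyl 2 P' (normalizer (D : Set G)) ∧ P ≠ P') →
      normalizer (D : Set G) ≤ normalizer (W : Set G) → D = E := by
  haveI : Fact (Nat.Prime 2) := ⟨Nat.prime_two⟩
  obtain ⟨E, hER, hWE⟩ := exists_rad hW hW1
  refine ⟨E, ?_⟩
  rintro D hD ⟨P, P', hP, hP', hne⟩ hDW
  have hDE := hDW.trans hWE
  obtain ⟨Q, hQ, hPQ⟩ := exists_isSyl_ge hP.isPGroup (hP.le.trans hDE)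
  obtain ⟨Q', hQ', hPQ'⟩ := exists_isSyl_ge hP'.isPGroup (hP'.le.trans hDE)
  have hQQ : Q ≠ Q' := by
    rintro rfl
    exact hne (syl_eq_of_sup hP hP' (hQ.isPGroup.to_le (sup_le hPQ hPQ')))
  have h1 := hE E hER Q Q' hQ hQ' hQQ
  have hDP : D ≤ P := normal_le_syl hP hD.2.two hD.2.le hD.2.nor
  have hDP' : D ≤ P' := normal_le_syl hP' hD.2.two hD.2.le hD.2.nor
  have h2 : D ≤ E := le_trans (le_inf (hDP.trans hPQ) (hDP'.trans hPQ')) h1
  by_contra hne2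
  have h3 := lt_inf_normalizer_of_isPGroup hER.2.two (lt_of_le_of_ne h2 hne2)
  have h4 : E ⊓ normalizer (D : Set G) ≤ D := by
    apply hD.2.max _ inf_le_right
    · intro g hg
      rw [mem_normalizer_iff_cj, cj_inf, cj_normalizer, mem_normalizer_iff_cj.1 hg,
        mem_normalizer_iff_cj.1 (hDE hg)]
    · exact hER.2.two.to_le inf_le_left
  exact absurd h4 (not_le_of_gt h3)

/-! ### maximal elementary abelian subgroups and `JT` -/

theorem exists_isMaxEA (P : Subgroup G) : ∃ A, IsMaxEA A P := by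
  let X := {A : Subgroup G // A ≤ P ∧ IsEA A}
  haveI : Nonempty X := ⟨⟨⊥, bot_le, fun x hx => by rw [Subgroup.mem_bot] at hx; rw [hx, one_mul]⟩⟩
  obtain ⟨⟨A, hA1, hA2⟩, hmax⟩ := Finite.exists_max (fun A : X => Nat.card (A : Subgroup G))
  exact ⟨A, hA1, hA2, fun B hB hBE => hmax ⟨B, hB, hBE⟩⟩

theorem JT_le (P : Subgroup G) : JT P ≤ P := iSup_le (fun A => A.2.1)

theorem le_JT {A P : Subgroup G} (h : IsMaxEA A P) : A ≤ JT P :=
  le_iSup (fun A : {A : Subgroup G // IsMaxEA A P} => (A : Subgroup G)) ⟨A, h⟩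

theorem cj_JT (g : G) (P : Subgroup G) : cj g (JT P) = JT (cj g P) := by
  have key : ∀ (g : G) (P : Subgroup G), JT (cj g P) ≤ cj g (JT P) := by
    intro g P
    apply iSup_le
    rintro ⟨A, hA⟩
    have h1 := isMaxEA_cj hA g⁻¹
    rw [cj_inv_cj] at h1
    have h2 := cj_le_cj (g := g).2 (le_JT h1)
    rw [cj_cj_inv] at h2
    exact h2
  apply le_antisymm _ (key g P)
  rw [cj_le_iff]
  have := key g⁻¹ (cj g P)
  rwa [cj_inv_cj] at this

theorem normalizer_le_JT (P : Subgroup G) :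
    normalizer (P : Set G) ≤ normalizer ((JT P : Subgroup G) : Set G) := by
  intro g hg
  rw [mem_normalizer_iff_cj] at hg ⊢
  rw [cj_JT, hg]

theorem mem_of_commutes {B S : Subgroup G} (hB : IsMaxEA B S) {e : G} (heS : e ∈ S) (he : e * e = 1)
    (hc : ∀ b ∈ B, b * e = e * b) : e ∈ B := by
  have hez : IsEA (zpowers e) := by
    intro x hx
    obtain ⟨n, rfl⟩ := mem_zpowers_iff.1 hx
    have := (Commute.refl e)
    rw [← this.mul_zpow, he, one_zpow]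
  have h1 : IsEA (B ⊔ zpowers e) := by
    apply IsEA_sup hB.2.1 hez
    intro b hb v hv
    obtain ⟨n, rfl⟩ := mem_zpowers_iff.1 hv
    exact (Commute.zpow_right (show Commute b e from hc b hb) n).eq
  have h2 := hB.2.2 _ (sup_le hB.1 (by rwa [zpowers_le])) h1
  have h3 : B = B ⊔ zpowers e := Subgroup.eq_of_le_of_card_ge le_sup_left h2
  rw [h3]
  exact (le_sup_right : zpowers e ≤ B ⊔ zpowers e) (mem_zpowers e)

theorem maxEA_ne_bot {A P : Subgroup G} (hA : IsMaxEA A P) (hP : IsPGroup 2 P) (hP1 : P ≠ ⊥) : A ≠ ⊥ := by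
  obtain ⟨x, hx, hx2⟩ := exists_central_inv hP hP1
  intro h
  have h1 := mem_of_commutes hA hx.1 hx.2.1 (fun b hb => (hx.2.2 b (hA.1 hb)).symm)
  rw [h, Subgroup.mem_bot] at h1
  rw [h1] at hx2; simp at hx2

theorem JT_ne_bot {P : Subgroup G} (hP : IsPGroup 2 P) (hP1 : P ≠ ⊥) : JT P ≠ ⊥ := by
  obtain ⟨A, hA⟩ := exists_isMaxEA P
  intro h
  exact maxEA_ne_bot hA hP hP1 (le_bot_iff.1 (h ▸ le_JT hA))

theorem isMaxEA_of_le {A D S : Subgroup G} (hA : IsMaxEA A S) (hAD : A ≤ D) (hDS : D ≤ S) : IsMaxEA A D :=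
  ⟨hAD, hA.2.1, fun B hB hBE => hA.2.2 B (hB.trans hDS) hBE⟩

theorem isMaxEA_up {A B D S : Subgroup G} (hA : IsMaxEA A S) (hAD : A ≤ D) (hDS : D ≤ S)
    (hB : IsMaxEA B D) : IsMaxEA B S :=
  ⟨hB.1.trans hDS, hB.2.1, fun C hC hCE => (hA.2.2 C hC hCE).trans (hB.2.2 A hAD hA.2.1)⟩

theorem JT_eq {D S : Subgroup G} (hDS : D ≤ S) (h : ∀ A, IsMaxEA A S → A ≤ D) : JT S = JT D := by
  obtain ⟨A₀, hA₀⟩ := exists_isMaxEA S
  apply le_antisymm
  · apply iSup_le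
    rintro ⟨A, hA⟩
    exact le_JT (isMaxEA_of_le hA (h A hA) hDS)
  · apply iSup_le
    rintro ⟨A, hA⟩
    exact le_JT (isMaxEA_up hA₀ (h A₀ hA₀) hDS hA)

end Lead.CITA
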