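import Mathlib
import Cfsg.Agent.Lib.Lead.CITA1

/-! T-CIT assembly, part 2: J-type radicals, strongly embedded case. -/

set_option autoImplicit false
set_option linter.style.haveILetI false
set_option linter.unusedSectionVars false

namespace Lead.CITA

open Subgroup H28.Cj H28.RelSyl Lead.CIT Lead.CIT3 Lead.CITQ Lead.CIT6

universe u

variable {G : Type u} [Group G] [Finite G]

theorem syl_of_ge {S N : Subgroup G} (hS : IsSyl 2 S ⊤) (h : S ≤ N) : IsSyl 2 S N :=
  hS.of_le_of_le h le_top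

/-- a radical subgroup is either Sylow in its normaliser or there are two different Sylows -/
theorem exists_other {D P : Subgroup G} (hD : Rad D) (hP : IsSyl 2 P (normalizer (D : Set G)))
    (hne : P ≠ D) : ∃ P', IsSyl 2 P' (normalizer (D : Set G)) ∧ P' ≠ P := by
  by_contra hcon
  push Not at hcon
  apply hne
  apply le_antisymm
  · apply hD.2.max P hP.le _ hP.isPGroup
    intro g hg
    rw [mem_normalizer_iff_cj]
    exact hcon _ (hP.cj_of_mem hg)
  · exact normal_le_syl hP hD.2.two hD.2.le hD.2.nor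

/-- J-type radical subgroups over `S` -/
def JType (S D : Subgroup G) : Prop :=
  Rad D ∧ S ≤ normalizer (D : Set G) ∧ ∃ A, IsMaxEA A S ∧ ¬ A ≤ D

theorem JType.other {S D : Subgroup G} (hSyl : IsSyl 2 S ⊤) (h : JType S D) :
    ∃ P', IsSyl 2 P' (normalizer (D : Set G)) ∧ P' ≠ S := by
  obtain ⟨h1, h2, A, hA, hAD⟩ := h
  apply exists_other h1 (syl_of_ge hSyl h2)
  rintro rfl
  exact hAD hA.1

/-- `N(J(S)) ≤ N(S)` if there is a J-type radical subgroup over `S` -/
theorem norm_JT_le (hS : Sep G) (hE : ∀ D : Subgroup G, Rad D → TIMod D (normalizer (D : Set G)))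
    {S D : Subgroup G} (hSyl : IsSyl 2 S ⊤) (hJ : JType S D) :
    normalizer ((JT S : Subgroup G) : Set G) ≤ normalizer (S : Set G) := by
  haveI : Fact (Nat.Prime 2) := ⟨Nat.prime_two⟩
  obtain ⟨P', hP', hne⟩ := hJ.other hSyl
  obtain ⟨hD, hSN, A, hA, hAD⟩ := hJ
  have hSD := syl_of_ge hSyl hSN
  have hTI := hE D hD
  obtain ⟨q, hq1, hcV, hcS, hcZ, hmax, hsup, -, hfix⟩ := core hS hD.1 hD.2 hTI hSD ⟨P', hP', hne⟩ hA hAD
  obtain ⟨h, hh, hPh⟩ := hSD.exists_conj_eq hP'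
  obtain ⟨a, haA, haD⟩ : ∃ a ∈ A, a ∉ D := by
    by_contra hcon
    push Not at hcon
    exact hAD hcon
  have hDS : D ≤ S := normal_le_syl hSD hD.2.two hD.2.le hD.2.nor
  set V := OZ D with hV
  set X := A ⊓ D with hX
  have hVD : V ≤ D := OZ_le D
  have hBD : X ⊔ V ≤ D := sup_le inf_le_right hVD
  have hBmD : IsMaxEA (X ⊔ V) D := isMaxEA_of_le hmax hBD hDS
  have hBJ : X ⊔ V ≤ JT D := le_JT hBmD
  have hBJS : X ⊔ V ≤ JT S := le_JT hmax
  have hJJ : JT D ≤ JT S := by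
    apply iSup_le
    rintro ⟨C, hC⟩
    exact le_JT (isMaxEA_up hmax hBD hDS hC)
  set W := OZ (JT D) with hW
  set E := OZ (JT S) with hEd
  have hEB : E ≤ X ⊔ V := fun e he =>
    mem_of_commutes hmax (JT_le S he.1) he.2.1 (fun b hb => (he.2.2 b (hBJS hb)).symm)
  have hEW : E ≤ W := fun e he => ⟨hBJ (hEB he), he.2.1, fun y hy => he.2.2 y (hJJ hy)⟩
  have hVW : V ≤ W := fun v hv => ⟨hBJ (le_sup_right (a := X) hv), hv.2.1, fun y hy => OZ_comm hv (JT_le D hy)⟩
  have hWB : W ≤ X ⊔ V := fun w hw =>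
    mem_of_commutes hmax (hDS (JT_le D hw.1)) hw.2.1 (fun b hb => (hw.2.2 b (hBJ hb)).symm)
  set Y := X ⊓ W with hY
  have hx0 : 0 < Nat.card X := Nat.card_pos
  have hd0 : 0 < Nat.card D := Nat.card_pos
  -- |A| = q |X|
  have hcA : Nat.card A = q * Nat.card X := by
    have h2 := H28.RelHall.card_sup_mul_card_inf (hA.1.trans hSD.le : A ≤ normalizer (D : Set G))
    rw [hsup, hcS] at h2
    have h3 : Nat.card A * Nat.card D = (q * Nat.card X) * Nat.card D := by rw [← h2]; ring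
    exact Nat.eq_of_mul_eq_mul_right hd0 h3
  have hcB : Nat.card (X ⊔ V : Subgroup G) = q * Nat.card X := by
    rw [← hcA]
    exact le_antisymm (hA.2.2 _ hmax.1 hmax.2.1) (hmax.2.2 _ hA.1 hA.2.1)
  have hXB : X.relIndex (X ⊔ V) = q := by
    have h2 := relIndex_mul_card (H := X) (K := X ⊔ V) le_sup_left
    rw [hcB] at h2
    exact Nat.eq_of_mul_eq_mul_right hx0 h2
  have hcW : Nat.card W ≤ q * Nat.card Y := by
    have h2 : Y.relIndex W * Nat.card Y = Nat.card W := relIndex_mul_card inf_le_right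
    have h3 : Y.relIndex W = X.relIndex W := by rw [hY, inf_relIndex_right]
    have h4 : X.relIndex W ≤ X.relIndex (X ⊔ V) := relIndex_le_of_le_right hWB (by rw [hXB]; omega)
    rw [← h2, h3]
    apply Nat.mul_le_mul_right
    rw [← hXB]; exact h4
  have hcjW : cj h W = W := by
    rw [hW, cj_OZ, cj_JT, mem_normalizer_iff_cj.1 hh]
  have hYY : Y ⊓ cj h Y = ⊥ := by
    rw [eq_bot_iff]
    rintro v ⟨hv1, hv2⟩
    rw [Subgroup.mem_bot]
    have hv3 := mem_cj.1 hv2
    apply inf_cj_eq_bot hS hTI hSD hP' (Ne.symm hne) (hA.1 haA) haD hh hPh.symm hv1.2.2.1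
    · exact hA.2.1.comm hv1.1.1 haA
    · have h4 : h⁻¹ * v * h * a = a * (h⁻¹ * v * h) := hA.2.1.comm hv3.1.1 haA
      calc v * (h * a * h⁻¹) = h * (h⁻¹ * v * h * a) * h⁻¹ := by group
        _ = h * (a * (h⁻¹ * v * h)) * h⁻¹ := by rw [h4]
        _ = h * a * h⁻¹ * v := by group
  have hWEA : IsEA W := IsEA_OZ _
  have hcYY : Nat.card Y * Nat.card Y ≤ Nat.card W := by
    have h2 : cj h Y ≤ W := by rw [← hcjW]; exact cj_le_cj.2 inf_le_right
    have h3 : Y ≤ normalizer ((cj h Y : Subgroup G) : Set G) := by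
      apply le_normalizer_of_conj_mem
      intro g hg x hx
      have := hWEA.comm (inf_le_right (b := W) hg) (h2 hx)
      rw [this]; simpa using hx
    have h4 := H28.RelHall.card_sup_mul_card_inf h3
    rw [hYY, Subgroup.card_bot, mul_one, card_cj] at h4
    rw [← h4]
    exact Subgroup.card_le_of_le (sup_le inf_le_right h2)
  have hy0 : 0 < Nat.card Y := Nat.card_pos
  have hyq : Nat.card Y ≤ q := by
    have : Nat.card Y * Nat.card Y ≤ q * Nat.card Y := hcYY.trans hcW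
    exact Nat.le_of_mul_le_mul_right this hy0
  have hVW' : V = W := by
    apply Subgroup.eq_of_le_of_card_ge hVW
    rw [hcV]
    calc Nat.card W ≤ q * Nat.card Y := hcW
      _ ≤ q * q := Nat.mul_le_mul_left _ hyq
      _ = q ^ 2 := by rw [pow_two]
  have hEC : E ≤ centralizer (S : Set G) := by
    intro e he
    apply hfix a haA haD
    refine ⟨(hVW' ▸ hEW he : e ∈ V), ?_⟩
    change e ∈ centralizer ({a} : Set G)
    rw [mem_centralizer_singleton_iff]
    exact he.2.2 a (le_JT hA haA)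
  have hS1 : S ≠ ⊥ := by
    rintro rfl
    exact hne (le_bot_iff.1 ((IsSyl.eq_of_le hSD IsPGroup.of_bot bot_le bot_le) ▸
      (by
        have := hSD.card_eq_card hP'
        rw [Subgroup.card_bot] at this
        rw [← Subgroup.card_eq_one.1 this.symm])))
  have hJ2 : IsPGroup 2 (JT S) := hSyl.isPGroup.to_le (JT_le S)
  have hE1 : E ≠ ⊥ := OZ_ne_bot hJ2 (JT_ne_bot hSyl.isPGroup hS1)
  have hE2 : IsPGroup 2 E := hJ2.to_le (OZ_le _)
  have hCE := centralizer_isPGroup hS hE2 hE1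
  have hSC : centralizer (E : Set G) = S := by
    apply hSyl.eq_of_le hCE _ le_top
    intro x hx
    rw [mem_centralizer_iff]
    intro y hy
    exact (mem_centralizer_iff.1 (hEC hy) x hx).symm
  intro g hg
  rw [mem_normalizer_iff_cj] at hg ⊢
  conv_lhs => rw [← hSC]
  rw [cj_centralizer, hEd, cj_OZ, hg, ← hEd, hSC]

theorem isO2_cj {D N : Subgroup G} (h : IsO2 D N) (g : G) : IsO2 (cj g D) (cj g N) := by
  refine ⟨cj_le_cj.2 h.le, ?_, isPGroup_cj.2 h.two, ?_⟩
  · rw [← cj_normalizer]; exact cj_le_cj.2 h.nor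
  · intro E hE hn hE2
    rw [le_cj_iff]
    apply h.max
    · rw [cj_le_iff, inv_inv]; exact hE
    · rw [← cj_normalizer, le_cj_iff, inv_inv]; exact hn
    · exact isPGroup_cj.2 hE2

theorem rad_cj {D : Subgroup G} (h : Rad D) (g : G) : Rad (cj g D) := by
  refine ⟨fun h' => h.1 (cj_eq_bot.1 h'), ?_⟩
  rw [← cj_normalizer]; exact isO2_cj h.2 g

theorem jtype_cj {S D : Subgroup G} (h : JType S D) {g : G} (hg : g ∈ normalizer (S : Set G)) :
    JType S (cj g D) := by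
  obtain ⟨h1, h3, A, hA, hAD⟩ := h
  have hgS := mem_normalizer_iff_cj.1 hg
  refine ⟨rad_cj h1 g, ?_, cj g A, ?_, ?_⟩
  · rw [← cj_normalizer, ← hgS]; exact cj_le_cj.2 h3
  · have := isMaxEA_cj hA g; rwa [hgS] at this
  · rw [cj_le_cj]; exact hAD

theorem norm_le_of_not_jtype {S D : Subgroup G} (hSyl : IsSyl 2 S ⊤) (hD : Rad D)
    (hSN : S ≤ normalizer (D : Set G)) (hJ : ¬ JType S D) :
    normalizer (D : Set G) ≤ normalizer ((JT S : Subgroup G) : Set G) := by
  have h : ∀ A, IsMaxEA A S → A ≤ D := by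
    intro A hA
    by_contra hAD
    exact hJ ⟨hD, hSN, A, hA, hAD⟩
  have hDS : D ≤ S := normal_le_syl (syl_of_ge hSyl hSN) hD.2.two hD.2.le hD.2.nor
  rw [JT_eq hDS h]
  exact normalizer_le_JT D

/-- if there is at most one J-type radical subgroup over `S`, all 2-locals over `S` lie in one -/
theorem exists_M (hS : Sep G) (hE : ∀ D : Subgroup G, Rad D → TIMod D (normalizer (D : Set G)))
    {S : Subgroup G} (hSyl : IsSyl 2 S ⊤) (hS1 : S ≠ ⊥)
    (hone : ∀ D₁ D₂, JType S D₁ → JType S D₂ → D₁ = D₂) :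
    ∃ D : Subgroup G, Rad D ∧ S ≤ normalizer (D : Set G) ∧ ∀ U : Subgroup G, IsPGroup 2 U → U ≠ ⊥ →
      S ≤ normalizer (U : Set G) → normalizer (U : Set G) ≤ normalizer (D : Set G) := by
  by_cases hex : ∃ D, JType S D
  · obtain ⟨D₁, hD₁⟩ := hex
    refine ⟨D₁, hD₁.1, hD₁.2.1, ?_⟩
    intro U hU hU1 hSU
    obtain ⟨D, hD, hUD⟩ := exists_rad hU hU1
    apply hUD.trans
    by_cases hJ : JType S D
    · rw [hone _ _ hJ hD₁]
    · apply (norm_le_of_not_jtype hSyl hD (hSU.trans hUD) hJ).trans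
      apply (norm_JT_le hS hE hSyl hD₁).trans
      intro g hg
      rw [mem_normalizer_iff_cj]
      exact hone _ _ (jtype_cj hD₁ hg) hD₁
  · have hJ2 : IsPGroup 2 (JT S) := hSyl.isPGroup.to_le (JT_le S)
    have hJ1 := JT_ne_bot hSyl.isPGroup hS1
    obtain ⟨D, hD, hUD⟩ := exists_rad hJ2 hJ1
    have hSJ : S ≤ normalizer ((JT S : Subgroup G) : Set G) := le_normalizer.trans (normalizer_le_JT S)
    refine ⟨D, hD, hSJ.trans hUD, ?_⟩
    intro U hU hU1 hSU
    obtain ⟨D', hD', hUD'⟩ := exists_rad hU hU1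
    apply hUD'.trans
    apply (norm_le_of_not_jtype hSyl hD' (hSU.trans hUD') (fun h => hex ⟨_, h⟩)).trans hUD

/-! ### the strongly embedded case -/

theorem emb {M : Subgroup G} {S : Subgroup G} (hSyl : IsSyl 2 S ⊤) (hSM : S ≤ M)
    (hM : ∀ U : Subgroup G, U ≠ ⊥ → IsPGroup 2 U → U ≤ M → normalizer (U : Set G) ≤ M)
    {g z : G} (hz : orderOf z = 2) (h1 : z ∈ M) (h2 : z ∈ cj g M) : g ∈ M := by
  haveI : Fact (Nat.Prime 2) := ⟨Nat.prime_two⟩
  set R := M ⊓ cj g M with hR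
  have hzR : z ∈ R := ⟨h1, h2⟩
  have h2R : 2 ∣ Nat.card R := by
    rw [← hz, ← Subgroup.orderOf_mk z hzR]; exact orderOf_dvd_natCard _
  obtain ⟨T, hT⟩ := exists_isSyl 2 R
  have hT1 : T ≠ ⊥ := hT.ne_bot h2R
  have hN1 : normalizer (T : Set G) ≤ M := hM T hT1 hT.isPGroup (hT.le.trans inf_le_left)
  have hN2 : normalizer (T : Set G) ≤ cj g M := by
    have h3 := hM (cj g⁻¹ T) (fun h => hT1 (cj_eq_bot.1 h)) (isPGroup_cj.2 hT.isPGroup)
      (by rw [cj_le_iff, inv_inv]; exact hT.le.trans inf_le_right)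
    rw [← cj_normalizer, cj_le_iff, inv_inv] at h3
    exact h3
  have hTG : IsSyl 2 T ⊤ := by
    obtain ⟨P, hP, hTP⟩ := exists_isSyl_ge hT.isPGroup (le_top : T ≤ ⊤)
    by_cases h : T = P
    · rw [h]; exact hP
    · exfalso
      have h3 := lt_inf_normalizer_of_isPGroup hP.isPGroup (lt_of_le_of_ne hTP h)
      have h4 := hT.eq_of_le (hP.isPGroup.to_le (inf_le_left : P ⊓ normalizer (T : Set G) ≤ P)) h3.le
        (inf_le_right.trans (le_inf hN1 hN2))
      exact h3.ne h4.symm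
  have hTM : IsSyl 2 T M := syl_of_ge hTG (hT.le.trans inf_le_left)
  have hT'M : IsSyl 2 (cj g⁻¹ T) M := by
    apply syl_of_ge _ (by rw [cj_le_iff, inv_inv]; exact hT.le.trans inf_le_right)
    have := hTG.cj g⁻¹
    rwa [cj_top] at this
  obtain ⟨m, hm, hmT⟩ := hTM.exists_conj_eq hT'M
  have h5 : g * m ∈ normalizer (T : Set G) := by
    rw [mem_normalizer_iff_cj, ← cj_cj, ← hmT, cj_cj_inv]
  have h6 := M.mul_mem (hN1 h5) (M.inv_mem hm)
  simpa using h6

theorem cent_le_of {M : Subgroup G} 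
    (hM : ∀ U : Subgroup G, U ≠ ⊥ → IsPGroup 2 U → U ≤ M → normalizer (U : Set G) ≤ M)
    {t c : G} (ht : orderOf t = 2) (htM : t ∈ M) (hc : c * t = t * c) : c ∈ M := by
  have h1 : IsPGroup 2 (zpowers t) := by
    apply IsPGroup.of_card (n := 1)
    rw [Nat.card_zpowers, ht, pow_one]
  have h2 : zpowers t ≠ ⊥ := by
    rw [Ne, zpowers_eq_bot]; rintro rfl; simp at ht
  apply hM _ h2 h1 (by rwa [zpowers_le])
  apply centralizer_le_normalizer
  rw [mem_centralizer_iff]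
  intro y hy
  obtain ⟨n, rfl⟩ := mem_zpowers_iff.1 hy
  exact (Commute.zpow_left (show Commute t c from hc.symm) n).eq

theorem exists_inv_not_mem [IsSimpleGroup G] {M : Subgroup G} (hM : M ≠ ⊤) (h2 : 2 ∣ Nat.card G) :
    ∃ s : G, orderOf s = 2 ∧ s ∉ M := by
  by_contra hcon
  push Not at hcon
  apply hM
  have hK : (closure {s : G | orderOf s = 2}).Normal := by
    constructor
    intro n hn g
    induction hn using closure_induction with
    | mem x hx =>
      apply Subgroup.subset_closure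
      change orderOf (g * x * g⁻¹) = 2
      rw [← MulAut.conj_apply, MulEquiv.orderOf_eq]; exact hx
    | one => simp
    | mul x y _ _ hx hy =>
      have : g * (x * y) * g⁻¹ = g * x * g⁻¹ * (g * y * g⁻¹) := by group
      rw [this]; exact mul_mem hx hy
    | inv x _ hx =>
      have : g * x⁻¹ * g⁻¹ = (g * x * g⁻¹)⁻¹ := by group
      rw [this]; exact inv_mem hx
  haveI : Fact (Nat.Prime 2) := ⟨Nat.prime_two⟩
  obtain ⟨x, hx⟩ := exists_prime_orderOf_dvd_card' 2 h2
  rcases hK.eq_bot_or_eq_top with h | h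
  · exfalso
    have : x ∈ closure {s : G | orderOf s = 2} := Subgroup.subset_closure hx
    rw [h, Subgroup.mem_bot] at this
    rw [this] at hx; simp at hx
  · rw [eq_top_iff, ← h, closure_le]
    exact fun s hs => hcon s hs

/-- in a radical non-2-closed 2-local there is an involution outside `O₂` -/
theorem exists_inv_out (hS : Sep G) {D P P' : Subgroup G} (hD : Rad D)
    (hTI : TIMod D (normalizer (D : Set G))) (hP : IsSyl 2 P (normalizer (D : Set G)))
    (hP' : IsSyl 2 P' (normalizer (D : Set G))) (hne : P ≠ P') :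
    ∃ a ∈ normalizer (D : Set G), a ∉ D ∧ orderOf a = 2 := by
  haveI : Fact (Nat.Prime 2) := ⟨Nat.prime_two⟩
  set N := normalizer (D : Set G) with hN
  have hDN : D ≤ N := hD.2.le
  haveI : (D.subgroupOf N).Normal := (normal_subgroupOf_iff_le_normalizer hDN).2 le_rfl
  let f : N →* N ⧸ (D.subgroupOf N) := QuotientGroup.mk' _
  have hf : Function.Surjective f := QuotientGroup.mk'_surjective _
  have hker : f.ker = D.subgroupOf N := QuotientGroup.ker_mk' _
  have hK : IsPGroup 2 f.ker := by rw [hker]; exact (isPGroup_subgroupOf hDN).2 hD.2.two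
  have hQ := sep_quotient (sep_subgroup hS N) f hf hK
  have hDP : D ≤ P := normal_le_syl hP hD.2.two hD.2.le hD.2.nor
  have hDP' : D ≤ P' := normal_le_syl hP' hD.2.two hD.2.le hD.2.nor
  -- Sylow subgroups of the quotient
  have hle : ∀ A : Sylow 2 (N ⧸ (D.subgroupOf N)), (A : Subgroup _) ≤ f.range := by
    intro A; rw [MonoidHom.range_eq_top.2 hf]; exact le_top
  let cm : Sylow 2 (N ⧸ (D.subgroupOf N)) → Sylow 2 N := fun A => A.comapOfKerIsPGroup f hK (hle A)
  have hcm : ∀ A, ((cm A : Sylow 2 N) : Subgroup N) = (A : Subgroup (N ⧸ (D.subgroupOf N))).comap f := fun A => rfl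
  have hTI' : ∀ A B : Sylow 2 (N ⧸ (D.subgroupOf N)), A ≠ B →
      (A : Subgroup (N ⧸ (D.subgroupOf N))) ⊓ (B : Subgroup (N ⧸ (D.subgroupOf N))) = ⊥ := by
    intro A B hAB
    rw [eq_bot_iff]
    rintro x ⟨hxA, hxB⟩
    obtain ⟨y, rfl⟩ := hf x
    have h1 : cm A ≠ cm B := by
      intro h
      apply hAB
      apply Sylow.ext
      have := congrArg (fun P : Sylow 2 N => (P : Subgroup N)) h
      simp only [hcm] at this
      exact comap_injective hf this
    have h2 := hTI _ _ (isSyl_map (cm A)) (isSyl_map (cm B)) (by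
      intro h
      apply h1
      apply Sylow.ext
      exact map_injective N.subtype_injective h)
    have h3 : (y : G) ∈ D := h2 ⟨⟨y, hxA, rfl⟩, ⟨y, hxB, rfl⟩⟩
    rw [Subgroup.mem_bot]
    have h4 : y ∈ f.ker := by rw [hker, mem_subgroupOf]; exact h3
    exact h4
  have hneq : (hP.toSylow).mapSurjective hf ≠ (hP'.toSylow).mapSurjective hf := by
    intro h
    have h1 := congrArg (fun A : Sylow 2 (N ⧸ (D.subgroupOf N)) => (A : Subgroup _).comap f) h
    have h2 : ∀ R : Sylow 2 N, ((R.mapSurjective hf : Sylow 2 _) : Subgroup _).comap f = R := by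
      intro R
      change ((R : Subgroup N).map f).comap f = R
      rw [comap_map_eq, sup_eq_left.2 (hK.le_sylow_of_normal R)]
    simp only [h2] at h1
    apply hne
    rw [← hP.map_toSylow, ← hP'.map_toSylow, h1]
  set A := (hP.toSylow).mapSurjective hf with hAdef
  set B := (hP'.toSylow).mapSurjective hf with hBdef
  have hneAB : ∃ A B : Sylow 2 (N ⧸ (D.subgroupOf N)), A ≠ B := ⟨A, B, hneq⟩
  obtain ⟨sb, hsA, hs2⟩ := exists_inv_of_ne_bot A.2 (sylow_ne_bot hneAB A)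
  obtain ⟨tb, htB, ht2⟩ := exists_inv_of_ne_bot B.2 (sylow_ne_bot hneAB B)
  have hodd := odd_of_ne hQ hTI' hneq hs2 ht2 hsA htB
  have hst1 : orderOf (sb * tb) ≠ 1 := by
    intro h
    rw [orderOf_eq_one_iff] at h
    have h1 : sb = tb := by
      have := eq_inv_of_mul_eq_one_left h
      rw [this, inv_of_orderOf_two ht2]
    have h3 : sb ∈ (A : Subgroup (N ⧸ (D.subgroupOf N))) ⊓ (B : Subgroup (N ⧸ (D.subgroupOf N))) := ⟨hsA, h1 ▸ htB⟩
    rw [hTI' A B hneq, Subgroup.mem_bot] at h3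
    rw [h3] at hs2; simp at hs2
  obtain ⟨p, hp, hpm⟩ := Nat.exists_prime_and_dvd hst1
  obtain ⟨r, hr⟩ := hpm
  haveI : Fact p.Prime := ⟨hp⟩
  have hp2 : p ≠ 2 := by
    rintro rfl
    rw [hr] at hodd
    exact (Nat.not_even_iff_odd.2 hodd) ⟨r, by ring⟩
  have hr0 : r ≠ 0 := by
    rintro rfl
    rw [mul_zero] at hr
    exact (orderOf_pos (sb * tb)).ne' hr
  set xb := (sb * tb) ^ r with hxb
  have hxbo : orderOf xb = p := by
    rw [hxb, orderOf_pow' _ hr0, hr, Nat.gcd_eq_right ⟨p, by ring⟩]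
    exact Nat.mul_div_cancel _ (Nat.pos_of_ne_zero hr0)
  have hinv : sb * xb * sb⁻¹ = xb⁻¹ := conj_pow_prod hs2 ht2 r
  -- lift
  obtain ⟨y, hy⟩ := hf xb
  have hy0 : orderOf y ≠ 0 := (orderOf_pos _).ne'
  obtain ⟨k, m, hm, hkm⟩ := Nat.exists_eq_two_pow_mul_odd hy0
  set y1 := y ^ (2 ^ k) with hy1
  have ho : orderOf y1 = m := by
    rw [hy1, orderOf_pow' _ (pow_ne_zero _ two_ne_zero), hkm, Nat.gcd_eq_right ⟨m, rfl⟩]
    exact Nat.mul_div_cancel_left _ (by positivity)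
  have hfy1 : f y1 = xb ^ (2 ^ k) := by rw [hy1, map_pow, hy]
  have hy1p : y1 ^ p = 1 := by
    have h1 : y1 ^ p ∈ f.ker := by
      rw [MonoidHom.mem_ker, map_pow, hfy1, ← pow_mul, mul_comm, pow_mul, ← hxbo, pow_orderOf_eq_one,
        one_pow]
    obtain ⟨j, hj⟩ := hK ⟨y1 ^ p, h1⟩
    have h2 : (y1 ^ p) ^ (2 ^ j) = 1 := by
      have := congrArg Subtype.val hj
      simpa using this
    have h3 : orderOf (y1 ^ p) ∣ 2 ^ j := orderOf_dvd_of_pow_eq_one h2
    have h4 : orderOf (y1 ^ p) ∣ m := by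
      rw [← ho]; exact orderOf_pow_dvd p
    have h5 : Nat.Coprime m (2 ^ j) := Nat.Coprime.pow_right _ (Nat.coprime_two_right.2 hm)
    exact orderOf_eq_one_iff.1 (Nat.eq_one_of_dvd_coprimes h5 h4 h3)
  have hy11 : y1 ≠ 1 := by
    intro h
    rw [h, map_one] at hfy1
    have h3 : orderOf xb ∣ 2 ^ k := orderOf_dvd_of_pow_eq_one hfy1.symm
    rw [hxbo] at h3
    exact hp2 ((Nat.prime_dvd_prime_iff_eq hp Nat.prime_two).1 (hp.dvd_of_dvd_pow h3))
  have hy1o : orderOf y1 = p := orderOf_eq_prime hy1p hy11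
  obtain ⟨s, hs⟩ := hf sb
  -- work in G
  set x : G := (y1 : G) with hx
  have hxo : orderOf x = p := by rw [hx, Subgroup.orderOf_coe]; exact hy1o
  set X := zpowers x with hXdef
  have hXN : X ≤ N := by rw [hXdef, zpowers_le]; exact y1.2
  have hX2 : Nat.card X = p := by rw [hXdef, Nat.card_zpowers, hxo]
  have hXp : IsPGroup p X := by
    apply IsPGroup.of_card (n := 1); rw [hX2, pow_one]
  have hDX : X ⊓ D = ⊥ := by
    obtain ⟨j, hj⟩ := IsPGroup.iff_card.1 hD.2.two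
    apply inf_eq_bot_of_coprime
    rw [hX2, hj]
    exact Nat.Coprime.pow_right _ (by
      rw [Nat.coprime_primes hp Nat.prime_two]; exact hp2)
  have hcK := H28.RelHall.card_sup_mul_card_inf (hXN : X ≤ normalizer (D : Set G))
  rw [hDX, Subgroup.card_bot, mul_one, hX2] at hcK
  set K := X ⊔ D with hKdef
  have hpD : ¬ p ∣ Nat.card D := by
    obtain ⟨j, hj⟩ := IsPGroup.iff_card.1 hD.2.two
    rw [hj]; intro h
    exact hp2 ((Nat.prime_dvd_prime_iff_eq hp Nat.prime_two).1 (hp.dvd_of_dvd_pow h))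
  have hXK : IsSyl p X K := by
    refine ⟨le_sup_left, hXp, ?_⟩
    have h1 := relIndex_mul_card (H := X) (K := K) le_sup_left
    rw [hcK, hX2, mul_comm p] at h1
    rw [Nat.eq_of_mul_eq_mul_right hp.pos h1]; exact hpD
  have hsx : (s : G) * x * (s : G)⁻¹ ∈ K := by
    -- f (s y1 s⁻¹) = f (y1⁻¹)
    have h1 : f (s * y1 * s⁻¹ * y1) = 1 := by
      rw [map_mul, map_mul, map_mul, map_inv, hs, hfy1, ← conj_pow, hinv, inv_pow, inv_mul_cancel]
    have h2 : s * y1 * s⁻¹ * y1 ∈ D.subgroupOf N := by rw [← hker]; exact h1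
    have h3 : (s : G) * x * (s : G)⁻¹ * x ∈ D := h2
    have h4 : (s : G) * x * (s : G)⁻¹ = ((s : G) * x * (s : G)⁻¹ * x) * x⁻¹ := by group
    rw [h4]
    exact K.mul_mem (le_sup_right (a := X) h3) (K.inv_mem (le_sup_left (b := D) (mem_zpowers x)))
  have hcjX : cj (s : G) X ≤ K := by
    intro z hz
    obtain ⟨n, hn⟩ := mem_zpowers_iff.1 (mem_cj.1 hz)
    have : z = ((s : G) * x * (s : G)⁻¹) ^ n := by
      rw [conj_zpow, hn]; group
    rw [this]; exact K.zpow_mem hsx n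
  have hXK' : IsSyl p (cj (s : G) X) K := by
    apply isSyl_of_card_le hXK (isPGroup_cj.2 hXp) hcjX
    rw [card_cj]
  obtain ⟨h, hh, hhX⟩ := hXK.exists_conj_eq hXK'
  obtain ⟨x', hx', d, hd, hxd⟩ := mem_sup_norm (hXN : X ≤ normalizer (D : Set G)) (K.inv_mem hh)
  have hh' : h = d⁻¹ * x'⁻¹ := by rw [← mul_inv_rev, hxd, inv_inv]
  have hcjd : cj (s : G) X = cj d⁻¹ X := by
    rw [hhX, hh', ← cj_cj, cj_eq_self_of_mem (X.inv_mem hx')]
  set a : G := d * (s : G) with ha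
  have haX : cj a X = X := by rw [ha, ← cj_cj, hcjd, cj_cj_inv]
  have haN : a ∈ N := N.mul_mem (hDN hd) s.2
  have hsD : (s : G) ∉ D := by
    intro h1
    have h2 : s ∈ f.ker := by rw [hker, mem_subgroupOf]; exact h1
    rw [MonoidHom.mem_ker, hs] at h2
    rw [h2] at hs2; simp at hs2
  have haD : a ∉ D := by
    intro h1
    apply hsD
    have h2 := D.mul_mem (D.inv_mem hd) h1
    rwa [ha, inv_mul_cancel_left] at h2
  have haa : a * a ∈ D := by
    have h1 : f (⟨a, haN⟩ * ⟨a, haN⟩) = 1 := by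
      have h2 : (⟨a, haN⟩ : N) = ⟨d, hDN hd⟩ * s := rfl
      have h3 : f ⟨d, hDN hd⟩ = 1 := by
        change (⟨d, hDN hd⟩ : N) ∈ f.ker
        rw [hker, mem_subgroupOf]; exact hd
      rw [map_mul, h2, map_mul, h3, one_mul, hs]
      exact sq_of_orderOf_two hs2
    have h4 : (⟨a, haN⟩ * ⟨a, haN⟩ : N) ∈ D.subgroupOf N := by rw [← hker]; exact h1
    exact h4
  have haa1 : a * a = 1 := by
    by_contra hcon
    have h1 : cj (a * a) X = X := by rw [← cj_cj, haX, haX]
    have h2 : a * a * x * (a * a)⁻¹ * x⁻¹ ∈ X ⊓ D := by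
      constructor
      · apply X.mul_mem _ (X.inv_mem (mem_zpowers x))
        rw [← h1]; exact conj_mem_cj.2 (mem_zpowers x)
      · have h3 : a * a * x * (a * a)⁻¹ * x⁻¹ = a * a * (x * (a * a)⁻¹ * x⁻¹) := by group
        rw [h3]
        exact D.mul_mem haa ((mem_normalizer_iff.1 (hXN (mem_zpowers x)) _).1 (D.inv_mem haa))
    rw [hDX, Subgroup.mem_bot] at h2
    have h4 : a * a * x = x * (a * a) := by
      rw [mul_inv_eq_one, mul_inv_eq_iff_eq_mul] at h2; exact h2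
    have h5 : IsPGroup 2 (zpowers (a * a)) := hD.2.two.to_le (by rwa [zpowers_le])
    have h6 : zpowers (a * a) ≠ ⊥ := by rw [Ne, zpowers_eq_bot]; exact hcon
    have hx1 : x = 1 := by
      apply sep_eq_one hS h5 h6
      · rw [hxo]; exact hp.odd_of_ne_two hp2
      · intro g hg
        obtain ⟨n, rfl⟩ := mem_zpowers_iff.1 hg
        exact ((show Commute x (a * a) from h4.symm).zpow_right n).eq
    rw [hx1, orderOf_one] at hxo
    exact hp.one_lt.ne hxo
  refine ⟨a, haN, haD, orderOf_eq_prime (by rw [pow_two]; exact haa1) ?_⟩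
  rintro h1
  exact haD (h1 ▸ D.one_mem)

/-- strongly embedded 2-local: TI -/
theorem se_ti (hS : Sep G) [IsSimpleGroup G] (h2 : 2 ∣ Nat.card G)
    (hE : ∀ D : Subgroup G, Rad D → TIMod D (normalizer (D : Set G))) {S D : Subgroup G}
    (hSyl : IsSyl 2 S ⊤) (hD : Rad D) (hSM : S ≤ normalizer (D : Set G))
    (hMne : normalizer (D : Set G) ≠ ⊤)
    (hM : ∀ U : Subgroup G, U ≠ ⊥ → IsPGroup 2 U → U ≤ normalizer (D : Set G) →
      normalizer (U : Set G) ≤ normalizer (D : Set G))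
    {P Q : Subgroup G} (hP : IsSyl 2 P ⊤) (hQ : IsSyl 2 Q ⊤) (hPQ : P ≠ Q) : P ⊓ Q = ⊥ := by
  haveI : Fact (Nat.Prime 2) := ⟨Nat.prime_two⟩
  obtain ⟨s, hs, hsM⟩ := exists_inv_not_mem hMne h2
  have hconj : ∀ t : G, t ∈ normalizer (D : Set G) → orderOf t = 2 → IsConj t s := by
    intro t htM ht
    apply isConj_of_odd ht hs
    by_contra hcon
    obtain ⟨c, hc2, hct, hcs⟩ := exists_central_of_even ht hs hcon
    have h1 := cent_le_of hM ht htM hct
    exact hsM (cent_le_of hM hc2 h1 hcs.symm)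
  have hinD : ∀ t : G, t ∈ normalizer (D : Set G) → orderOf t = 2 → t ∈ D := by
    intro t htM ht
    obtain ⟨t₀, ht₀, ht₀2⟩ := exists_inv_of_ne_bot hD.2.two hD.1
    obtain ⟨g, hg⟩ := isConj_iff.1 ((hconj t₀ (hD.2.le ht₀) ht₀2).trans (hconj t htM ht).symm)
    have h1 : t ∈ cj g (normalizer (D : Set G)) := by
      rw [← hg]; exact conj_mem_cj.2 (hD.2.le ht₀)
    have h3 := emb hSyl hSM hM ht htM h1
    rw [← hg]
    exact (mem_normalizer_iff.1 h3 t₀).1 ht₀
  have hSN := syl_of_ge hSyl hSM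
  have hclosed : ∀ R, IsSyl 2 R (normalizer (D : Set G)) → R = S := by
    intro R hR
    by_contra hne
    obtain ⟨a, haN, haD, ha2⟩ := exists_inv_out hS hD (hE D hD) hR hSN hne
    exact haD (hinD a haN ha2)
  by_contra hcon
  obtain ⟨z, hz, hz2⟩ := exists_inv_of_ne_bot (hP.isPGroup.to_le (inf_le_left : P ⊓ Q ≤ P)) hcon
  obtain ⟨g, -, hg⟩ := hSyl.exists_conj_eq hP
  obtain ⟨k, -, hk⟩ := hSyl.exists_conj_eq hQ
  have h1 : g⁻¹ * z * g ∈ S := mem_cj.1 (hg ▸ hz.1 : z ∈ cj g S)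
  have h3 : k⁻¹ * z * k ∈ S := mem_cj.1 (hk ▸ hz.2 : z ∈ cj k S)
  have h4 : g⁻¹ * k ∈ normalizer (D : Set G) := by
    apply emb hSyl hSM hM (z := g⁻¹ * z * g) _ (hSM h1)
    · rw [mem_cj]
      have : (g⁻¹ * k)⁻¹ * (g⁻¹ * z * g) * (g⁻¹ * k) = k⁻¹ * z * k := by group
      rw [this]; exact hSM h3
    · have : g⁻¹ * z * g = MulAut.conj g⁻¹ z := by simp
      rw [this, MulEquiv.orderOf_eq]; exact hz2
  have h5 : cj (g⁻¹ * k) S = S := hclosed _ (hSN.cj_of_mem h4)
  apply hPQ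
  rw [hg, hk]
  have h6 : cj k S = cj g (cj (g⁻¹ * k) S) := by rw [cj_cj, mul_inv_cancel_left]
  rw [h6, h5]

end Lead.CITA
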