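import Mathlib
import Cfsg.Agent.Lib.Lead.CITA2

/-! T-CIT assembly, part 3: producing the configuration `T = V V'`. -/

set_option autoImplicit false
set_option linter.style.haveILetI false
set_option linter.unusedSectionVars false

namespace Lead.CITA

open Subgroup H28.Cj H28.RelSyl Lead.CIT Lead.CIT3 Lead.CITQ Lead.CIT6

universe u

variable {G : Type u} [Group G] [Finite G]

theorem nat2_cj {q : ℕ} {V : Subgroup G} (h : Nat2 q V) (g : G) : Nat2 q (cj g V) := by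
  have hN : normalizer ((cj g V : Subgroup G) : Set G) = cj g (normalizer (V : Set G)) :=
    (cj_normalizer g V).symm
  have hC : centralizer ((cj g V : Subgroup G) : Set G) = cj g (centralizer (V : Set G)) :=
    (cj_centralizer g V).symm
  have hback : ∀ P : Subgroup G, IsSyl 2 P (cj g (normalizer (V : Set G))) →
      ∃ P₀, IsSyl 2 P₀ (normalizer (V : Set G)) ∧ P = cj g P₀ := by
    intro P hP
    refine ⟨cj g⁻¹ P, ?_, (cj_cj_inv g P).symm⟩
    rw [← isSyl_cj_iff (g := g), cj_cj_inv]; exact hP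
  constructor
  · exact h.q1
  · intro x hx
    have h1 := h.ea _ (mem_cj.1 hx)
    calc x * x = g * (g⁻¹ * x * g * (g⁻¹ * x * g)) * g⁻¹ := by group
      _ = 1 := by rw [h1]; group
  · rw [card_cj]; exact h.card
  · rw [hC]; exact isPGroup_cj.2 h.two
  · intro P hP
    rw [hN] at hP
    obtain ⟨P₀, hP₀, rfl⟩ := hback P hP
    rw [hC]; exact cj_le_cj.2 (h.cle P₀ hP₀)
  · intro P hP
    rw [hN] at hP
    obtain ⟨P₀, hP₀, rfl⟩ := hback P hP
    rw [hC, card_cj, card_cj]; exact h.cardP P₀ hP₀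
  · intro P hP
    rw [hN] at hP
    obtain ⟨P₀, hP₀, rfl⟩ := hback P hP
    rw [← cj_centralizer, ← cj_inf, card_cj]; exact h.cz P₀ hP₀
  · intro P hP x hx hxC v hv hxv
    rw [hN] at hP
    obtain ⟨P₀, hP₀, rfl⟩ := hback P hP
    rw [hC] at hxC
    rw [← cj_centralizer, mem_cj]
    apply h.fix P₀ hP₀ (g⁻¹ * x * g) (mem_cj.1 hx) (fun h' => hxC (mem_cj.2 h')) _ (mem_cj.1 hv)
    calc g⁻¹ * x * g * (g⁻¹ * v * g) = g⁻¹ * (x * v) * g := by group
      _ = g⁻¹ * (v * x) * g := by rw [hxv]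
      _ = _ := by group
  · intro P hP x hx v hv
    rw [hN] at hP
    obtain ⟨P₀, hP₀, rfl⟩ := hback P hP
    rw [← cj_centralizer, mem_cj]
    have h1 := h.comm P₀ hP₀ (g⁻¹ * x * g) (mem_cj.1 hx) _ (mem_cj.1 hv)
    have h2 : g⁻¹ * (v * x * v⁻¹ * x⁻¹) * g =
      g⁻¹ * v * g * (g⁻¹ * x * g) * (g⁻¹ * v * g)⁻¹ * (g⁻¹ * x * g)⁻¹ := by group
    rw [h2]; exact h1
  · intro P hP
    rw [hN] at hP
    obtain ⟨P₀, hP₀, rfl⟩ := hback P hP
    rw [← cj_OZ]; exact cj_le_cj.2 (h.oz P₀ hP₀)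
  · intro P P' hP hP' hne
    rw [hN] at hP hP'
    obtain ⟨P₀, hP₀, rfl⟩ := hback P hP
    obtain ⟨P₁, hP₁, rfl⟩ := hback P' hP'
    rw [hN, ← cj_sup, h.gen P₀ P₁ hP₀ hP₁ (fun h' => hne (by rw [h']))]
  · obtain ⟨P, P', hP, hP', hne⟩ := h.ex
    rw [hN]
    exact ⟨cj g P, cj g P', hP.cj g, hP'.cj g, fun h' => hne (cj_injective g h')⟩

/-- data attached to a radical subgroup of natural type -/
structure NRad (q : ℕ) (D : Subgroup G) : Prop where
  rad : Rad D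
  nat : Nat2 q (OZ D)
  cen : centralizer ((OZ D : Subgroup G) : Set G) = D
  nor : normalizer ((OZ D : Subgroup G) : Set G) = normalizer (D : Set G)

theorem nrad_cj {q : ℕ} {D : Subgroup G} (h : NRad q D) (g : G) : NRad q (cj g D) := by
  refine ⟨rad_cj h.rad g, ?_, ?_, ?_⟩
  · rw [← cj_OZ]; exact nat2_cj h.nat g
  · rw [← cj_OZ, ← cj_centralizer, h.cen]
  · rw [← cj_OZ, ← cj_normalizer, ← cj_normalizer, h.nor]

/-- the use of the amalgam lemma -/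
theorem use_amalgam (hS : Sep G) (hE : ∀ D : Subgroup G, Rad D → TIMod D (normalizer (D : Set G)))
    {q : ℕ} (VV : Set (Subgroup G))
    (hc : ∀ V ∈ VV, ∀ g : G, cj g V ∈ VV) (hn : ∀ V ∈ VV, Nat2 q V) {D₁ D₂ P : Subgroup G}
    (h1 : NRad q D₁) (h2 : NRad q D₂) (hne : D₁ ≠ D₂)
    (hV1 : OZ D₁ ∈ VV) (hV2 : OZ D₂ ∈ VV)
    (hP1 : IsSyl 2 P (normalizer (D₁ : Set G))) (hP2 : IsSyl 2 P (normalizer (D₂ : Set G))) :
    ∃ V V' : Subgroup G, V ∈ VV ∧ V' ∈ VV ∧ Adj V V' ∧ ¬ V' ≤ centralizer (V : Set G) := by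
  have hadj : Adj (OZ D₁) (OZ D₂) := by
    refine ⟨?_, P, by rw [h1.nor]; exact hP1, by rw [h2.nor]; exact hP2⟩
    intro h
    apply hne
    rw [← h1.cen, ← h2.cen, h]
  rcases H36.CITM1.amalgam hS VV hc hn hV1 hV2 hadj with h | ⟨W, hW1, hW2, hW⟩
  · exact h
  · exfalso
    obtain ⟨E, hEW⟩ := rad_unique hE hW2 hW1
    have hex : ∀ {D : Subgroup G}, NRad q D → ∃ P P', IsSyl 2 P (normalizer (D : Set G)) ∧
        IsSyl 2 P' (normalizer (D : Set G)) ∧ P ≠ P' := by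
      intro D hD
      have := hD.nat.ex
      rwa [hD.nor] at this
    have e1 := hEW D₁ h1.rad (hex h1) (by
      rw [← h1.nor]; exact hW _ Relation.ReflTransGen.refl)
    have e2 := hEW D₂ h2.rad (hex h2) (by
      rw [← h2.nor]
      exact hW _ (Relation.ReflTransGen.single ⟨hV1, hV2, hadj⟩))
    exact hne (e1.trans e2.symm)

theorem jtype_nrad (hS : Sep G) (hE : ∀ D : Subgroup G, Rad D → TIMod D (normalizer (D : Set G)))
    {S D : Subgroup G} (hSyl : IsSyl 2 S ⊤) (hJ : JType S D) :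
    NRad (Nat.card (OZ S)) D := by
  obtain ⟨P', hP', hne⟩ := hJ.other hSyl
  obtain ⟨hD, hSN, A, hA, hAD⟩ := hJ
  have hSD := syl_of_ge hSyl hSN
  obtain ⟨q, hN, hcen, hnor, -, -⟩ := lemmaJ hS hD.1 hD.2 (hE D hD) hSD ⟨P', hP', hne⟩ hA hAD
  have hSD' : IsSyl 2 S (normalizer ((OZ D : Subgroup G) : Set G)) := by rw [hnor]; exact hSD
  have hq : Nat.card (OZ S) = q := H55.CITM2.card_OZ hN hSD'
  rw [hq]
  exact ⟨hD, hN, hcen, hnor⟩

/-- two J-type radical subgroups over `S` -/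
theorem case_two (hS : Sep G) (hE : ∀ D : Subgroup G, Rad D → TIMod D (normalizer (D : Set G)))
    {S D₁ D₂ : Subgroup G} (hSyl : IsSyl 2 S ⊤) (h1 : JType S D₁) (h2 : JType S D₂) (hne : D₁ ≠ D₂) :
    ∃ (q : ℕ) (V V' T : Subgroup G), Nat2 q V ∧ Nat2 q V' ∧ IsSyl 2 T (normalizer (V : Set G)) ∧
      IsSyl 2 T (normalizer (V' : Set G)) ∧ ¬ V' ≤ centralizer (V : Set G) ∧ IsSyl 2 T ⊤ := by
  haveI : Fact (Nat.Prime 2) := ⟨Nat.prime_two⟩
  have n1 := jtype_nrad hS hE hSyl h1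
  have n2 := jtype_nrad hS hE hSyl h2
  set q := Nat.card (OZ S) with hq
  let VV : Set (Subgroup G) := {V | ∃ g : G, V = cj g (OZ D₁) ∨ V = cj g (OZ D₂)}
  have hc : ∀ V ∈ VV, ∀ g : G, cj g V ∈ VV := by
    rintro V ⟨k, h | h⟩ g
    · exact ⟨g * k, Or.inl (by rw [h, cj_cj])⟩
    · exact ⟨g * k, Or.inr (by rw [h, cj_cj])⟩
  have hn : ∀ V ∈ VV, Nat2 q V := by
    rintro V ⟨k, h | h⟩
    · rw [h]; exact nat2_cj n1.nat k
    · rw [h]; exact nat2_cj n2.nat k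
  have hV1 : OZ D₁ ∈ VV := ⟨1, Or.inl (cj_one _).symm⟩
  have hV2 : OZ D₂ ∈ VV := ⟨1, Or.inr (cj_one _).symm⟩
  have hS1 := syl_of_ge hSyl h1.2.1
  have hS2 := syl_of_ge hSyl h2.2.1
  obtain ⟨V, V', hV, hV', ⟨-, T, hT, hT'⟩, hf⟩ := use_amalgam hS hE VV hc hn n1 n2 hne hV1 hV2 hS1 hS2
  refine ⟨q, V, V', T, hn V hV, hn V' hV', hT, hT', hf, ?_⟩
  have hcard : ∃ R : Subgroup G, IsSyl 2 R ⊤ ∧ R ≤ normalizer (V : Set G) := by
    obtain ⟨k, h | h⟩ := hV
    · refine ⟨cj k S, by have := hSyl.cj k; rwa [cj_top] at this, ?_⟩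
      rw [h, ← cj_normalizer, n1.nor]; exact cj_le_cj.2 h1.2.1
    · refine ⟨cj k S, by have := hSyl.cj k; rwa [cj_top] at this, ?_⟩
      rw [h, ← cj_normalizer, n2.nor]; exact cj_le_cj.2 h2.2.1
  obtain ⟨R, hR, hRN⟩ := hcard
  exact isSyl_of_card_le hR hT.isPGroup le_top (by rw [(syl_of_ge hR hRN).card_eq_card hT])

/-- not strongly embedded -/
theorem case_one (hS : Sep G) (hE : ∀ D : Subgroup G, Rad D → TIMod D (normalizer (D : Set G)))
    {S D₀ : Subgroup G} (hSyl : IsSyl 2 S ⊤) (hSM : S ≤ normalizer (D₀ : Set G))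
    (hM : ∀ U : Subgroup G, IsPGroup 2 U → U ≠ ⊥ →
      S ≤ normalizer (U : Set G) → normalizer (U : Set G) ≤ normalizer (D₀ : Set G))
    (hns : ∃ U : Subgroup G, U ≠ ⊥ ∧ IsPGroup 2 U ∧ U ≤ normalizer (D₀ : Set G) ∧
      ¬ normalizer (U : Set G) ≤ normalizer (D₀ : Set G)) :
    ∃ (q : ℕ) (V V' T : Subgroup G), Nat2 q V ∧ Nat2 q V' ∧ IsSyl 2 T (normalizer (V : Set G)) ∧
      IsSyl 2 T (normalizer (V' : Set G)) ∧ ¬ V' ≤ centralizer (V : Set G) ∧ ∃ S', IsSyl 2 S' ⊤ ∧ T < S' := by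
  haveI : Fact (Nat.Prime 2) := ⟨Nat.prime_two⟩
  set M := normalizer (D₀ : Set G) with hMdef
  have hSylM : IsSyl 2 S M := syl_of_ge hSyl hSM
  -- the set of U, together with a Sylow of N_M(U)
  let X := {p : Subgroup G × Subgroup G // p.1 ≠ ⊥ ∧ IsPGroup 2 p.1 ∧ p.1 ≤ M ∧
    ¬ normalizer (p.1 : Set G) ≤ M ∧ IsPGroup 2 p.2 ∧ p.2 ≤ M ⊓ normalizer (p.1 : Set G)}
  haveI : Nonempty X := by
    obtain ⟨U, hU1, hU2, hUM, hUN⟩ := hns
    exact ⟨⟨(U, U), hU1, hU2, hUM, hUN, hU2, le_inf hUM le_normalizer⟩⟩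
  obtain ⟨⟨⟨U, T⟩, hU1, hU2, hUM, hUN, hT2, hTM⟩, hmax⟩ := Finite.exists_max
    (fun p : X => Nat.card (p.1.1 : Subgroup G) + Nat.card (p.1.2 : Subgroup G))
  simp only at hU1 hU2 hUM hUN hT2 hTM
  have hmax' : ∀ U' T' : Subgroup G, U' ≠ ⊥ → IsPGroup 2 U' → U' ≤ M →
      ¬ normalizer (U' : Set G) ≤ M → IsPGroup 2 T' → T' ≤ M ⊓ normalizer (U' : Set G) →
      Nat.card U' + Nat.card T' ≤ Nat.card U + Nat.card T :=
    fun U' T' a b c d e f => hmax ⟨(U', T'), a, b, c, d, e, f⟩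
  -- T is Sylow in N_M(U)
  have hTsyl : IsSyl 2 T (M ⊓ normalizer (U : Set G)) := by
    obtain ⟨R, hR, hTR⟩ := exists_isSyl_ge hT2 hTM
    have h1 := hmax' U R hU1 hU2 hUM hUN hR.isPGroup hR.le
    have h2 : T = R := Subgroup.eq_of_le_of_card_ge hTR (by omega)
    rw [h2]; exact hR
  have hUT : U ≤ T := normal_le_syl hTsyl hU2 (le_inf hUM le_normalizer) inf_le_right
  -- S₁ ≥ T a Sylow of M
  obtain ⟨S₁, hS₁, hTS₁⟩ := exists_isSyl_ge hT2 (hTM.trans inf_le_left)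
  obtain ⟨m, hm, hmS⟩ := hSylM.exists_conj_eq hS₁
  have hS₁top : IsSyl 2 S₁ ⊤ := by
    rw [hmS]; have := hSyl.cj m; rwa [cj_top] at this
  have hM₁ : ∀ U : Subgroup G, IsPGroup 2 U → U ≠ ⊥ →
      S₁ ≤ normalizer (U : Set G) → normalizer (U : Set G) ≤ M := by
    intro W hW2 hW1 hSW
    have h1 := hM (cj m⁻¹ W) (isPGroup_cj.2 hW2) (fun h => hW1 (cj_eq_bot.1 h)) (by
      rw [← cj_normalizer, le_cj_iff, inv_inv, ← hmS]; exact hSW)
    rw [← cj_normalizer, cj_le_iff, inv_inv, cj_eq_self_of_mem hm] at h1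
    exact h1
  have hTlt : T < S₁ := by
    refine lt_of_le_of_ne hTS₁ ?_
    rintro rfl
    exact hUN (hM₁ U hU2 hU1 (hTM.trans inf_le_right))
  have hgrow := lt_inf_normalizer_of_isPGroup hS₁.isPGroup hTlt
  have hcgrow : Nat.card T < Nat.card (S₁ ⊓ normalizer (T : Set G) : Subgroup G) := by
    apply lt_of_le_of_ne (Subgroup.card_le_of_le hgrow.le)
    intro h
    exact hgrow.ne (Subgroup.eq_of_le_of_card_ge hgrow.le h.ge)
  have hS₁M : S₁ ≤ M := hS₁.le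
  have hcU := Subgroup.card_le_of_le hUT
  -- (5)
  have h5 : ∀ C : Subgroup G, C ≠ ⊥ → C ≤ T →
      S₁ ⊓ normalizer (T : Set G) ≤ normalizer (C : Set G) → normalizer (C : Set G) ≤ M := by
    intro C hC1 hCT hCN
    by_contra hcon
    have h := hmax' C (S₁ ⊓ normalizer (T : Set G)) hC1 (hT2.to_le hCT) (hCT.trans (hTM.trans inf_le_left))
      hcon (hS₁.isPGroup.to_le inf_le_left) (le_inf (inf_le_left.trans hS₁M) hCN)
    have h1 : 0 < Nat.card C := Nat.card_pos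
    have h2 := Subgroup.card_le_of_le hCT
    -- use a sharper bound: 2|T| ≤ |N|
    have h3 : 2 * Nat.card T ≤ Nat.card (S₁ ⊓ normalizer (T : Set G) : Subgroup G) := by
      have h4 := relIndex_mul_card hgrow.le
      have h6 : T.relIndex (S₁ ⊓ normalizer (T : Set G)) ≠ 1 := by
        intro h7
        rw [h7, one_mul] at h4
        omega
      have h7 : T.relIndex (S₁ ⊓ normalizer (T : Set G)) ≠ 0 := by
        intro h7
        rw [h7, zero_mul] at h4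
        have : 0 < Nat.card (S₁ ⊓ normalizer (T : Set G) : Subgroup G) := Nat.card_pos
        omega
      rw [← h4]
      exact Nat.mul_le_mul_right _ (by omega)
    omega
  have hT1 : T ≠ ⊥ := fun h => hU1 (le_bot_iff.1 (h ▸ hUT))
  have hNT : normalizer (T : Set G) ≤ M := h5 T hT1 le_rfl inf_le_right
  -- (2) T is Sylow in N(U)
  have hTX : IsSyl 2 T (normalizer (U : Set G)) := by
    obtain ⟨R, hR, hTR⟩ := exists_isSyl_ge hT2 (hTM.trans inf_le_right)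
    by_cases h : T = R
    · rw [h]; exact hR
    · exfalso
      have h1 := lt_inf_normalizer_of_isPGroup hR.isPGroup (lt_of_le_of_ne hTR h)
      have h2 := hTsyl.eq_of_le (hR.isPGroup.to_le (inf_le_left : R ⊓ normalizer (T : Set G) ≤ R)) h1.le
        (le_inf (inf_le_right.trans hNT) (inf_le_left.trans hR.le))
      exact h1.ne h2.symm
  -- (3) U is radical
  have hrad : Rad U := by
    refine ⟨hU1, ?_⟩
    obtain ⟨E, hEd⟩ := exists_isO2 (normalizer (U : Set G))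
    have hUE : U ≤ E := hEd.max U le_normalizer le_rfl hU2
    have hET : E ≤ T := normal_le_syl hTX hEd.two hEd.le hEd.nor
    have h1 := hmax' E T (fun h => hU1 (le_bot_iff.1 (h ▸ hUE))) hEd.two (hET.trans (hTM.trans inf_le_left))
      (fun h => hUN (hEd.nor.trans h)) hT2 (le_inf (hTM.trans inf_le_left) (hTX.le.trans hEd.nor))
    have h2 : U = E := Subgroup.eq_of_le_of_card_ge hUE (by omega)
    rw [← h2] at hEd; exact hEd
  -- (4)
  have hother : ∃ P', IsSyl 2 P' (normalizer (U : Set G)) ∧ P' ≠ T := by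
    apply exists_other hrad hTX
    intro h
    apply hUN
    rw [← h]; exact hNT
  -- (6)
  obtain ⟨A, hA, hAU⟩ : ∃ A, IsMaxEA A T ∧ ¬ A ≤ U := by
    by_contra hcon
    push Not at hcon
    apply hUN
    have hJ := JT_eq hUT hcon
    have h1 : normalizer ((JT T : Subgroup G) : Set G) ≤ M :=
      h5 (JT T) (JT_ne_bot hT2 hT1) (JT_le T) (inf_le_right.trans (normalizer_le_JT T))
    rw [hJ] at h1
    exact (normalizer_le_JT U).trans h1
  obtain ⟨q, hN, hcen, hnor, -, -⟩ := lemmaJ hS hU1 hrad.2 (hE U hrad) hTX hother hA hAU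
  have hnr : NRad q U := ⟨hrad, hN, hcen, hnor⟩
  -- (7)
  obtain ⟨y, hy, hyT⟩ := SetLike.exists_of_lt hgrow
  have hyU : cj y U ≠ U := by
    intro h
    have h1 : y ∈ normalizer (U : Set G) := mem_normalizer_iff_cj.2 h
    have h2 : IsPGroup 2 (T ⊔ zpowers y : Subgroup G) :=
      hS₁.isPGroup.to_le (sup_le hTS₁ (by rw [zpowers_le]; exact hy.1))
    have h3 := hTX.eq_of_le h2 le_sup_left (sup_le hTX.le (by rw [zpowers_le]; exact h1))
    apply hyT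
    rw [← h3]
    exact (le_sup_right : zpowers y ≤ T ⊔ zpowers y) (mem_zpowers y)
  have hyTT : cj y T = T := mem_normalizer_iff_cj.1 hy.2
  have hTX' : IsSyl 2 T (normalizer ((cj y U : Subgroup G) : Set G)) := by
    rw [← cj_normalizer, ← hyTT]; exact hTX.cj y
  let VV : Set (Subgroup G) := {V | ∃ g : G, V = cj g (OZ U)}
  have hc : ∀ V ∈ VV, ∀ g : G, cj g V ∈ VV := by
    rintro V ⟨k, h⟩ g
    exact ⟨g * k, by rw [h, cj_cj]⟩
  have hn : ∀ V ∈ VV, Nat2 q V := by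
    rintro V ⟨k, h⟩
    rw [h]; exact nat2_cj hN k
  obtain ⟨V, V', hV, hV', ⟨-, R, hR, hR'⟩, hf⟩ := use_amalgam hS hE VV hc hn hnr (nrad_cj hnr y)
    (Ne.symm hyU) ⟨1, (cj_one _).symm⟩ ⟨y, by rw [cj_OZ]⟩ hTX hTX'
  refine ⟨q, V, V', R, hn V hV, hn V' hV', hR, hR', hf, ?_⟩
  -- R is conjugate to T
  obtain ⟨k, hk⟩ := hV
  have h8 : IsSyl 2 (cj k⁻¹ R) (normalizer (U : Set G)) := by
    rw [← hnor, ← isSyl_cj_iff (g := k), cj_cj_inv, cj_normalizer, ← hk]; exact hR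
  obtain ⟨j, hj, hjR⟩ := hTX.exists_conj_eq h8
  refine ⟨cj (k * j) S₁, ?_, ?_⟩
  · have := hS₁top.cj (k * j); rwa [cj_top] at this
  · have h9 : R = cj (k * j) T := by rw [← cj_cj, ← hjR, cj_cj_inv]
    rw [h9]; exact cj_lt_cj.2 hTlt

end Lead.CITA
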