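import Mathlib
import Cfsg.Agent.Lib.Lead.CITA3
import Cfsg.Agent.Lib.H55.CITRing
import Cfsg.Agent.Lib.H18.CITM10
import Cfsg.Agent.Lib.H28.CITM7
import Cfsg.Agent.Lib.H11.CITM8

/-! T-CIT assembly, part 4: the local analysis of a simple `Sep` group whose 2-locals are TI modulo `O₂`. -/

set_option autoImplicit false
set_option linter.style.haveILetI false
set_option linter.unusedSectionVars false

namespace Lead.CITA

open Subgroup H28.Cj H28.RelSyl Lead.CIT Lead.CIT3 Lead.CITQ Lead.CIT6

universe u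

/-- conclusion of the CIT theorem for the non-TI case -/
def Concl (G : Type u) [Group G] : Prop :=
  (∃ (F : Type) (_ : Field F) (_ : Fintype F), Odd (Fintype.card F) ∧
    Nonempty (G ≃* Matrix.ProjectiveSpecialLinearGroup (Fin 2) F)) ∨
  (∃ (F : Type) (_ : Field F) (_ : Fintype F), Fintype.card F = 4 ∧
    Nonempty (G ≃* Matrix.ProjectiveSpecialLinearGroup (Fin 3) F))

/-- Sylow 2-subgroups intersect trivially -/
def TI (G : Type u) [Group G] : Prop := ∀ P Q : Sylow 2 G, P ≠ Q → (P : Subgroup G) ⊓ Q = ⊥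

theorem concl_of_config {G : Type u} [Group G] [Finite G] [IsSimpleGroup G]
    (hna : ∃ a b : G, a * b ≠ b * a) (hS : Sep G) {q : ℕ} {V V' T : Subgroup G} (h : Nat2 q V)
    (h' : Nat2 q V') (hT : IsSyl 2 T (normalizer (V : Set G)))
    (hT' : IsSyl 2 T (normalizer (V' : Set G))) (hf : ¬ V' ≤ centralizer (V : Set G))
    (hor : IsSyl 2 T ⊤ ∨ ∃ S', IsSyl 2 S' ⊤ ∧ T < S') : Concl G := by
  have hb := H55.CITM2.b_one hS h h' hT hT' hf
  rcases Nat.lt_or_ge 2 q with hq | hq
  · rcases hor with hST | ⟨S', hS', hTS⟩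
    · have h4 : q = 4 := H55.CITRing.q_four hS hq h h' hT hT' hf
      subst h4
      exact Or.inr (H18.CITM10.l34 hS h h' hT hT' hf hST)
    · exact (H28.CITM7.no_swap hna hS hq h h' hT hT' hf hS' hTS).elim
  · have h2 : q = 2 := le_antisymm hq h.q1
    subst h2
    exact Or.inl (H11.CITM8.q_two hna hS h hb.1)

theorem main_local {G : Type u} [Group G] [Finite G] [IsSimpleGroup G]
    (hna : ∃ a b : G, a * b ≠ b * a) (hS : Sep G) (h2 : 2 ∣ Nat.card G)
    (hE : ∀ D : Subgroup G, Rad D → TIMod D (normalizer (D : Set G))) : TI G ∨ Concl G := by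
  haveI : Fact (Nat.Prime 2) := ⟨Nat.prime_two⟩
  obtain ⟨S, hSyl⟩ := exists_isSyl 2 (⊤ : Subgroup G)
  have hS1 : S ≠ ⊥ := hSyl.ne_bot (by rw [Subgroup.card_top]; exact h2)
  by_cases hone : ∀ D₁ D₂, JType S D₁ → JType S D₂ → D₁ = D₂
  · obtain ⟨D, hD, hSM, hM⟩ := exists_M hS hE hSyl hS1 hone
    by_cases hns : ∃ U : Subgroup G, U ≠ ⊥ ∧ IsPGroup 2 U ∧ U ≤ normalizer (D : Set G) ∧
        ¬ normalizer (U : Set G) ≤ normalizer (D : Set G)
    · right
      obtain ⟨q, V, V', T, h, h', hT, hT', hf, hex⟩ := case_one hS hE hSyl hSM hM hns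
      exact concl_of_config hna hS h h' hT hT' hf (Or.inr hex)
    · left
      push Not at hns
      have hMne : normalizer (D : Set G) ≠ ⊤ := by
        intro h
        have hn : D.Normal := normalizer_eq_top_iff.1 h
        rcases hn.eq_bot_or_eq_top with h3 | h3
        · exact hD.1 h3
        · -- G is a 2-group
          have h4 : IsPGroup 2 G := by
            have := hD.2.two
            rw [h3] at this
            exact this.of_equiv Subgroup.topEquiv
          obtain ⟨a, b, hab⟩ := hna
          haveI : Nontrivial G := ⟨a, 1, by rintro rfl; simp at hab⟩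
          have h5 : Nontrivial (Subgroup.center G) := h4.center_nontrivial
          rcases (inferInstance : (Subgroup.center G).Normal).eq_bot_or_eq_top with h6 | h6
          · rw [h6] at h5; exact not_nontrivial _ h5
          · apply hab
            have : a ∈ Subgroup.center G := by rw [h6]; exact mem_top a
            exact (Subgroup.mem_center_iff.1 this b).symm
      intro P Q hPQ
      exact se_ti hS h2 hE hSyl hD hSM hMne hns (isSyl_top P) (isSyl_top Q) (fun h => hPQ (Sylow.ext h))
  · right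
    push Not at hone
    obtain ⟨D₁, D₂, h1, h2', hne⟩ := hone
    obtain ⟨q, V, V', T, h, h', hT, hT', hf, hex⟩ := case_two hS hE hSyl h1 h2' hne
    exact concl_of_config hna hS h h' hT hT' hf (Or.inl hex)

end Lead.CITA
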