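import Mathlib
import Cfsg.Agent.Lib.Lead.CITA4
import Cfsg.Agent.Lib.H28.CITM5
import Cfsg.Agent.Lib.H29.CITM12
import Cfsg.Agent.Lib.H44.CITM11
import Cfsg.Agent.Lib.H6.SmallIsoA

/-! T-CIT assembly, part 5: Lemma E and the CIT theorem. -/

set_option autoImplicit false
set_option linter.style.haveILetI false
set_option linter.unusedSectionVars false

namespace Lead.CITA

open Subgroup H28.Cj H28.RelSyl Lead.CIT Lead.CIT3 Lead.CITQ Lead.CIT6 H28.RelHall

universe u

section absolute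

variable {H : Type u} [Group H] [Finite H]

/-- an involution acting on a normal subgroup of odd order inverts it -/
theorem inverts (hS : Sep H) {L : Subgroup H} [L.Normal] (hodd : Odd (Nat.card L)) {t : H}
    (ht : orderOf t = 2) : ∀ x ∈ L, t * x * t⁻¹ = x⁻¹ := by
  have htt := sq_of_orderOf_two ht
  have hti := inv_of_orderOf_two ht
  let φ : L → L := fun x => ⟨(x : H)⁻¹ * (t * (x : H) * t⁻¹),
    L.mul_mem (L.inv_mem x.2) ((inferInstance : L.Normal).conj_mem _ x.2 t)⟩
  have hinj : Function.Injective φ := by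
    intro x y hxy
    have h1 : (x : H)⁻¹ * (t * (x : H) * t⁻¹) = (y : H)⁻¹ * (t * (y : H) * t⁻¹) := congrArg Subtype.val hxy
    have h2 : (y : H) * (x : H)⁻¹ * t = t * ((y : H) * (x : H)⁻¹) := by
      calc (y : H) * (x : H)⁻¹ * t = (y : H) * ((x : H)⁻¹ * (t * (x : H) * t⁻¹)) * t * (x : H)⁻¹ * (t * t⁻¹) := by
            group
        _ = t * ((y : H) * (x : H)⁻¹) := by
            rw [h1]; group
    have h3 : Odd (orderOf ((y : H) * (x : H)⁻¹)) := by
      have h4 : (y : H) * (x : H)⁻¹ ∈ L := L.mul_mem y.2 (L.inv_mem x.2)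
      have h5 : orderOf ((y : H) * (x : H)⁻¹) ∣ Nat.card L := by
        rw [← Subgroup.orderOf_mk _ h4]; exact orderOf_dvd_natCard _
      exact Odd.of_dvd_nat hodd h5
    have h4 := hS _ t ht h3 h2
    exact Subtype.ext (eq_of_mul_inv_eq_one h4).symm
  have hsurj : Function.Surjective φ := Finite.surjective_of_injective hinj
  intro z hz
  obtain ⟨x, hx⟩ := hsurj ⟨z, hz⟩
  have h1 : (x : H)⁻¹ * (t * (x : H) * t⁻¹) = z := congrArg Subtype.val hx
  rw [← h1, hti]
  calc t * ((x : H)⁻¹ * (t * (x : H) * t)) * t = t * (x : H)⁻¹ * t * (x : H) * (t * t) := by group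
    _ = ((x : H)⁻¹ * (t * (x : H) * t))⁻¹ := by
        rw [htt]; rw [mul_inv_rev, mul_inv_rev, mul_inv_rev, hti]; group

theorem ti_of_odd_normal (hS : Sep H) {L : Subgroup H} [L.Normal] (hodd : Odd (Nat.card L)) (hL1 : L ≠ ⊥) :
    TI H := by
  haveI : Fact (Nat.Prime 2) := ⟨Nat.prime_two⟩
  intro P Q hPQ
  by_contra hcon
  obtain ⟨t, ht, ht2⟩ := exists_inv_of_ne_bot (P.2.to_le (inf_le_left : (P : Subgroup H) ⊓ Q ≤ P)) hcon
  have hinv := inverts hS hodd ht2
  obtain ⟨x, hx, hx1⟩ : ∃ x ∈ L, x ≠ 1 := by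
    by_contra hc; push Not at hc
    exact hL1 ((Subgroup.eq_bot_iff_forall _).2 hc)
  have hxo : Odd (orderOf x) := by
    have h5 : orderOf x ∣ Nat.card L := by
      rw [← Subgroup.orderOf_mk _ hx]; exact orderOf_dvd_natCard _
    exact Odd.of_dvd_nat hodd h5
  have key : ∀ R : Sylow 2 H, t ∈ (R : Subgroup H) → (R : Subgroup H) = centralizer ({t} : Set H) := by
    intro R htR
    have h1 : (R : Subgroup H) ≤ centralizer ({t} : Set H) := by
      intro g hg
      rw [mem_centralizer_singleton_iff]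
      have hg2 : orderOf (g * t * g⁻¹) = 2 := by
        rw [← MulAut.conj_apply, MulEquiv.orderOf_eq]; exact ht2
      have hinv' := inverts hS hodd hg2
      have h2 : g * t * g⁻¹ * t ∈ (R : Subgroup H) := mul_mem (mul_mem (mul_mem hg htR) (inv_mem hg)) htR
      have h3 : g * t * g⁻¹ * t = 1 := by
        by_contra h4
        apply hx1
        have h5 : IsPGroup 2 (zpowers (g * t * g⁻¹ * t)) := R.2.to_le (by rwa [zpowers_le])
        have h6 : zpowers (g * t * g⁻¹ * t) ≠ ⊥ := by rw [Ne, zpowers_eq_bot]; exact h4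
        apply sep_eq_one hS h5 h6 hxo
        intro y hy
        obtain ⟨n, rfl⟩ := mem_zpowers_iff.1 hy
        have h7 : Commute x (g * t * g⁻¹ * t) := by
          have h8 := hinv x hx
          have h9 := hinv' x⁻¹ (L.inv_mem hx)
          rw [inv_inv] at h9
          have h10 : (g * t * g⁻¹ * t) * x * (g * t * g⁻¹ * t)⁻¹ = x := by
            calc (g * t * g⁻¹ * t) * x * (g * t * g⁻¹ * t)⁻¹
                = (g * t * g⁻¹) * (t * x * t⁻¹) * (g * t * g⁻¹)⁻¹ := by group
              _ = x := by rw [h8, h9]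
          rw [mul_inv_eq_iff_eq_mul] at h10
          exact h10.symm
        exact (h7.zpow_right n).eq
      have h11 : g * t * g⁻¹ = t⁻¹ := eq_inv_of_mul_eq_one_left h3
      rw [inv_of_orderOf_two ht2, mul_inv_eq_iff_eq_mul] at h11
      exact h11
    exact (R.3 (sep_centralizer hS ht2) h1).symm
  apply hPQ
  apply Sylow.ext
  rw [key P ht.1, key Q ht.2]

/-- cores of normal subgroups -/
theorem core_normal {π : Set ℕ} {L K : Subgroup H} (hL : L.Normal) (hKL : K ≤ L)
    (hLK : L ≤ normalizer (K : Set H)) (hK : PiG π K) (hK1 : K ≠ ⊥) :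
    ∃ M : Subgroup H, M ≠ ⊥ ∧ M.Normal ∧ PiG π M := by
  let X := {M : Subgroup H // M ≤ L ∧ L ≤ normalizer (M : Set H) ∧ PiG π M}
  haveI : Nonempty X := ⟨⟨K, hKL, hLK, hK⟩⟩
  obtain ⟨⟨M, hM1, hM2, hM3⟩, hmax⟩ := Finite.exists_max (fun M : X => Nat.card (M.1 : Subgroup H))
  have habs : ∀ M' : Subgroup H, M' ≤ L → L ≤ normalizer (M' : Set H) → PiG π M' → M' ≤ M := by
    intro M' h1 h2 h3
    have h4 : PiG π (M ⊔ M') := PiG.sup hM3 h3 (hM1.trans h2)
    have h5 : L ≤ normalizer ((M ⊔ M' : Subgroup H) : Set H) := by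
      intro g hg
      rw [mem_normalizer_iff_cj, cj_sup, mem_normalizer_iff_cj.1 (hM2 hg), mem_normalizer_iff_cj.1 (h2 hg)]
    have h6 := hmax ⟨M ⊔ M', sup_le hM1 h1, h5, h4⟩
    have h7 : M = M ⊔ M' := Subgroup.eq_of_le_of_card_ge le_sup_left h6
    rw [h7]; exact le_sup_right
  refine ⟨M, fun h => hK1 (le_bot_iff.1 (h ▸ habs K hKL hLK hK)), ?_, hM3⟩
  constructor
  intro n hn g
  have h1 : cj g L = L := by
    apply mem_normalizer_iff_cj.1
    rw [normalizer_eq_top_iff.2 hL]; exact mem_top g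
  have h2 : cj g M ≤ M := by
    apply habs
    · rw [← h1]; exact cj_le_cj.2 hM1
    · rw [← cj_normalizer, ← h1]; exact cj_le_cj.2 hM2
    · exact piG_cj.2 hM3
  exact h2 (conj_mem_cj.2 hn)

theorem exists_simple_normal [Nontrivial H] (hS : Sep H)
    (h2 : ∀ K : Subgroup H, K.Normal → IsPGroup 2 K → K = ⊥)
    (hodd : ∀ K : Subgroup H, K.Normal → Odd (Nat.card K) → K = ⊥) :
    ∃ L : Subgroup H, L.Normal ∧ IsSimpleGroup L ∧ 2 ∣ Nat.card L ∧ ∃ a b : L, a * b ≠ b * a := by
  haveI : Fact (Nat.Prime 2) := ⟨Nat.prime_two⟩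
  let X := {L : Subgroup H // L.Normal ∧ L ≠ ⊥}
  haveI : Nonempty X := ⟨⟨⊤, inferInstance, top_ne_bot⟩⟩
  obtain ⟨⟨L, hL, hL1⟩, hmin⟩ := Finite.exists_min (fun M : X => Nat.card (M.1 : Subgroup H))
  have hcjL : ∀ g : H, cj g L = L := by
    intro g
    apply mem_normalizer_iff_cj.1
    rw [normalizer_eq_top_iff.2 hL]; exact mem_top g
  have hL2 : ¬ IsPGroup 2 L := fun h => hL1 (h2 L hL h)
  have hLe : 2 ∣ Nat.card L := by
    by_contra h
    exact hL1 (hodd L hL (Nat.odd_iff.2 (by omega)))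
  have hsub : ∀ K : Subgroup H, K ≤ L → L ≤ normalizer (K : Set H) → K ≠ ⊥ → K = L := by
    let Y := {K : Subgroup H // K ≤ L ∧ L ≤ normalizer (K : Set H) ∧ K ≠ ⊥}
    haveI : Nonempty Y := ⟨⟨L, le_rfl, le_normalizer, hL1⟩⟩
    obtain ⟨⟨K, hK1, hK2, hK3⟩, hmin'⟩ := Finite.exists_min (fun M : Y => Nat.card (M.1 : Subgroup H))
    have hK4 : ¬ IsPGroup 2 K := by
      intro h
      obtain ⟨M, hM1, hM2, hM3⟩ := core_normal (π := {2}) hL hK1 hK2 (piG_singleton_iff.2 h) hK3
      exact hM1 (h2 M hM2 (piG_singleton_iff.1 hM3))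
    have hK5 : 2 ∣ Nat.card K := by
      by_contra h
      obtain ⟨M, hM1, hM2, hM3⟩ := core_normal (π := {p | p ≠ 2}) hL hK1 hK2 (by
        intro p hp hpd
        change p ≠ 2
        rintro rfl
        exact h hpd) hK3
      apply hM1 (hodd M hM2 _)
      by_contra h4
      rw [Nat.not_odd_iff_even] at h4
      exact hM3 2 Nat.prime_two (even_iff_two_dvd.1 h4) rfl
    obtain ⟨x, hx, hx1, hxo⟩ := H55.CITM2.exists_odd hK4
    obtain ⟨⟨t, htK⟩, ht⟩ := exists_prime_orderOf_dvd_card' 2 hK5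
    have ht2 : orderOf t = 2 := by rw [← ht, Subgroup.orderOf_mk]
    have hnor : ∀ g : H, cj g K = K := by
      intro g
      by_contra hne
      have hgN : L ≤ normalizer ((cj g K : Subgroup H) : Set H) := by
        rw [← cj_normalizer, ← hcjL g]; exact cj_le_cj.2 hK2
      have hgL : cj g K ≤ L := by rw [← hcjL g]; exact cj_le_cj.2 hK1
      have hbot : K ⊓ cj g K = ⊥ := by
        by_contra hb
        have h5 := hmin' ⟨K ⊓ cj g K, inf_le_left.trans hK1, by
          intro y hy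
          rw [mem_normalizer_iff_cj, cj_inf, mem_normalizer_iff_cj.1 (hK2 hy),
            mem_normalizer_iff_cj.1 (hgN hy)], hb⟩
        have h6 : K ⊓ cj g K = K := Subgroup.eq_of_le_of_card_ge inf_le_left h5
        have h7 : K ≤ cj g K := inf_eq_left.1 h6
        exact hne (Subgroup.eq_of_le_of_card_ge h7 (card_cj g K).le).symm
      have hcomm : ∀ a ∈ K, ∀ b ∈ cj g K, a * b = b * a := by
        intro a ha b hb
        have h5 : a * b * a⁻¹ * b⁻¹ ∈ K ⊓ cj g K := by
          constructor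
          · have : a * b * a⁻¹ * b⁻¹ = a * (b * a⁻¹ * b⁻¹) := by group
            rw [this]
            exact K.mul_mem ha ((mem_normalizer_iff.1 (hK2 (hgL hb)) _).1 (K.inv_mem ha))
          · exact (cj g K).mul_mem ((mem_normalizer_iff.1 (hgN (hK1 ha)) _).1 hb) ((cj g K).inv_mem hb)
        rw [hbot, Subgroup.mem_bot, mul_inv_eq_one, mul_inv_eq_iff_eq_mul] at h5
        exact h5
      have h6 := hcomm t htK (g * x * g⁻¹) (conj_mem_cj.2 hx)
      have h7 : g * x * g⁻¹ = 1 := by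
        apply hS _ t ht2 _ h6.symm
        rw [← MulAut.conj_apply, MulEquiv.orderOf_eq]; exact hxo
      apply hx1
      have : x = g⁻¹ * (g * x * g⁻¹) * g := by group
      rw [this, h7]; group
    have hKn : K.Normal := by
      constructor
      intro n hn g
      rw [← hnor g]; exact conj_mem_cj.2 hn
    have hKL : K = L := Subgroup.eq_of_le_of_card_ge hK1 (hmin ⟨K, hKn, hK3⟩)
    intro K' h1 h3 h4
    have h5 := hmin' ⟨K', h1, h3, h4⟩
    exact Subgroup.eq_of_le_of_card_ge h1 (by rw [← hKL]; exact h5)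
  haveI : Nontrivial L := (Subgroup.nontrivial_iff_ne_bot L).2 hL1
  refine ⟨L, hL, ⟨?_⟩, hLe, ?_⟩
  · intro N hN
    have h1 : N.map L.subtype ≤ L := map_subtype_le N
    have h3 : L ≤ normalizer ((N.map L.subtype : Subgroup H) : Set H) := by
      apply le_normalizer_of_conj_mem
      rintro g hg _ ⟨n, hn, rfl⟩
      exact ⟨⟨g, hg⟩ * n * ⟨g, hg⟩⁻¹, hN.conj_mem n hn ⟨g, hg⟩, rfl⟩
    by_cases h4 : N.map L.subtype = ⊥
    · left
      exact (map_eq_bot_iff_of_injective _ L.subtype_injective).1 h4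
    · right
      have h5 := hsub _ h1 h3 h4
      rw [eq_top_iff]
      rintro ⟨x, hx⟩ -
      rw [← h5] at hx
      obtain ⟨y, hy, hyx⟩ := hx
      have : y = ⟨x, h5 ▸ hx⟩ := Subtype.ext hyx
      exact this ▸ hy
  · by_contra hcon
    push Not at hcon
    obtain ⟨x, hx, hx1, hxo⟩ := H55.CITM2.exists_odd hL2
    obtain ⟨⟨t, htK⟩, ht⟩ := exists_prime_orderOf_dvd_card' 2 hLe
    have ht2 : orderOf t = 2 := by rw [← ht, Subgroup.orderOf_mk]
    exact hx1 (hS x t ht2 hxo (congrArg Subtype.val (hcon ⟨x, hx⟩ ⟨t, htK⟩)))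

theorem lift_odd {Q : Type*} [Group Q] (f : H →* Q) {x : Q} (hx : Odd (orderOf x)) {y : H}
    (hy : f y = x) : ∃ z : H, f z = x ∧ Odd (orderOf z) := by
  have hy0 : orderOf y ≠ 0 := (orderOf_pos _).ne'
  obtain ⟨k, m, hm, hkm⟩ := Nat.exists_eq_two_pow_mul_odd hy0
  have hco : Nat.Coprime (2 ^ k) (orderOf x) := Nat.Coprime.pow_left _ (Nat.coprime_two_left.2 hx)
  obtain ⟨j, hj⟩ := exists_pow_eq_self_of_coprime hco
  refine ⟨(y ^ (2 ^ k)) ^ j, ?_, ?_⟩
  · rw [map_pow, map_pow, hy, hj]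
  · have h1 : orderOf (y ^ (2 ^ k)) = m := by
      rw [orderOf_pow' _ (pow_ne_zero _ two_ne_zero), hkm, Nat.gcd_eq_right ⟨m, rfl⟩]
      exact Nat.mul_div_cancel_left _ (by positivity)
    exact Odd.of_dvd_nat (h1 ▸ hm) (orderOf_pow_dvd j)

end absolute

/-- `PSL₂(q)`, `PSL₃(4)` have no fixed point free modules in characteristic two -/
theorem psl2_false {F : Type} [Field F] [Fintype F] (h5 : 5 < Fintype.card F)
    (hF : Fintype.card F = 9 ∨ (Fintype.card F).Prime) {V : Type u} [Group V] [Finite V] [Nontrivial V]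
    (h2 : ∀ v : V, v * v = 1) (σ : Matrix.ProjectiveSpecialLinearGroup (Fin 2) F →* MulAut V)
    (hfix : ∀ x, x ≠ 1 → Odd (orderOf x) → ∀ v, σ x v = v → v = 1) : False := by
  letI : CommGroup V := { (inferInstance : Group V) with
    mul_comm := by
      intro x y
      have hi : ∀ z : V, z⁻¹ = z := fun z => inv_eq_of_mul_eq_one_left (h2 z)
      have := hi (x * y)
      rw [mul_inv_rev, hi, hi] at this
      exact this.symm }
  letI : MulDistribMulAction (Matrix.ProjectiveSpecialLinearGroup (Fin 2) F) V :=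
    MulDistribMulAction.compHom V σ
  exact H29.CITM12.psl2_no_module' h5 hF h2 (fun x hx ho v hv => hfix x hx ho v hv)

theorem psl3_false {F : Type} [Field F] [Fintype F] (h4 : Fintype.card F = 4)
    {V : Type u} [Group V] [Finite V] [Nontrivial V]
    (h2 : ∀ v : V, v * v = 1) (σ : Matrix.ProjectiveSpecialLinearGroup (Fin 3) F →* MulAut V)
    (hfix : ∀ x, x ≠ 1 → Odd (orderOf x) → ∀ v, σ x v = v → v = 1) : False := by
  letI : CommGroup V := { (inferInstance : Group V) with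
    mul_comm := by
      intro x y
      have hi : ∀ z : V, z⁻¹ = z := fun z => inv_eq_of_mul_eq_one_left (h2 z)
      have := hi (x * y)
      rw [mul_inv_rev, hi, hi] at this
      exact this.symm }
  letI : MulDistribMulAction (Matrix.ProjectiveSpecialLinearGroup (Fin 3) F) V :=
    MulDistribMulAction.compHom V σ
  exact H29.CITM12.psl34_no_module h4 h2 (fun x hx ho v hv => hfix x hx ho v hv)

/-- Sylow 2-subgroups of order four -/
theorem ti_of_card_four {L : Type u} [Group L] [Finite L] (hS : Sep L)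
    (h4 : ∀ P : Sylow 2 L, Nat.card P = 4) : TI L := by
  haveI : Fact (Nat.Prime 2) := ⟨Nat.prime_two⟩
  intro P Q hPQ
  by_contra hcon
  obtain ⟨t, ht, ht2⟩ := exists_inv_of_ne_bot (P.2.to_le (inf_le_left : (P : Subgroup L) ⊓ Q ≤ P)) hcon
  have key : ∀ R : Sylow 2 L, t ∈ (R : Subgroup L) → (R : Subgroup L) = centralizer ({t} : Set L) := by
    intro R htR
    have hc := IsPGroup.commutative_of_card_eq_prime_sq (p := 2) (G := R) (by rw [h4 R]; norm_num)
    have h1 : (R : Subgroup L) ≤ centralizer ({t} : Set L) := by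
      intro g hg
      rw [mem_centralizer_singleton_iff]
      exact congrArg Subtype.val (hc ⟨g, hg⟩ ⟨t, htR⟩)
    exact (R.3 (sep_centralizer hS ht2) h1).symm
  apply hPQ
  apply Sylow.ext
  rw [key P ht.1, key Q ht.2]

theorem ti_of_psl2_small {L : Type u} [Group L] [Finite L] (hS : Sep L) {F : Type} [Field F] [Fintype F]
    (hF : Fintype.card F = 3 ∨ Fintype.card F = 5)
    (e : L ≃* Matrix.ProjectiveSpecialLinearGroup (Fin 2) F) : TI L := by
  haveI : Fact (Nat.Prime 2) := ⟨Nat.prime_two⟩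
  apply ti_of_card_four hS
  intro P
  have h := H6.SmallIsoA.card_psl2 (F := F)
  obtain ⟨n, hn⟩ := IsPGroup.iff_card.1 P.2
  have h1 := card_mul_index (P : Subgroup L)
  have h2 : ¬ 2 ∣ (P : Subgroup L).index := P.not_dvd_index
  rw [hn, Nat.card_congr e.toEquiv] at h1
  change Nat.card (P : Subgroup L) = 4
  rw [hn]
  have key : ∀ m : ℕ, (m = 3 ∨ m = 15) →
      Nat.card (Matrix.ProjectiveSpecialLinearGroup (Fin 2) F) = 4 * m → 2 ^ n = 4 := by
    intro m hm hc
    rw [hc] at h1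
    rcases n with - | - | - | n
    · exfalso; rw [pow_zero, one_mul] at h1; omega
    · exfalso; omega
    · norm_num
    · exfalso
      have h3 : 2 ^ (n + 1 + 1 + 1) * (P : Subgroup L).index = 8 * (2 ^ n * (P : Subgroup L).index) := by ring
      rw [h3] at h1
      omega
  rcases hF with hF | hF
  · rw [hF] at h; norm_num at h
    exact key 3 (Or.inl rfl) (by omega)
  · rw [hF] at h; norm_num at h
    exact key 15 (Or.inr rfl) (by omega)

end Lead.CITA
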