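import Mathlib
import Cfsg.Agent.Lib.Lead.CITA5

/-! T-CIT assembly, part 6: Lemma E and the CIT theorem. -/

set_option autoImplicit false
set_option linter.style.haveILetI false
set_option linter.unusedSectionVars false

namespace Lead.CITA

open Subgroup H28.Cj H28.RelSyl Lead.CIT Lead.CIT3 Lead.CITQ Lead.CIT6 H28.RelHall

universe u

/-- the module of a simple group acting on `OZ D` -/
theorem no_concl {G : Type u} [Group G] [Finite G] (hS : Sep G) {D : Subgroup G} (hD : Rad D)
    [(D.subgroupOf (normalizer (D : Set G))).Normal]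
    (L : Subgroup (normalizer (D : Set G) ⧸ D.subgroupOf (normalizer (D : Set G)))) :
    ∃ (V : Type u) (_ : Group V) (_ : Finite V) (_ : Nontrivial V) (σ : L →* MulAut V),
      (∀ v : V, v * v = 1) ∧ ∀ x, x ≠ 1 → Odd (orderOf x) → ∀ v, σ x v = v → v = 1 := by
  set N := normalizer (D : Set G) with hN
  let f : N →* N ⧸ (D.subgroupOf N) := QuotientGroup.mk' _
  have hf : Function.Surjective f := QuotientGroup.mk'_surjective _
  have hker : f.ker = D.subgroupOf N := QuotientGroup.ker_mk' _
  have hNV : N ≤ normalizer ((OZ D : Subgroup G) : Set G) := normalizer_le_OZ D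
  letI : MulDistribMulAction N (OZ D) :=
    { smul := fun n v => ⟨(n : G) * v * (n : G)⁻¹, conj_mem_of_le_normalizer hNV n.2 v.2⟩
      one_smul := fun v => Subtype.ext (by change ((1 : N) : G) * v.1 * ((1 : N) : G)⁻¹ = v.1; simp)
      mul_smul := fun g h v => Subtype.ext (by
        change ((g * h : N) : G) * v.1 * ((g * h : N) : G)⁻¹ =
          (g : G) * ((h : G) * v.1 * (h : G)⁻¹) * (g : G)⁻¹
        rw [Subgroup.coe_mul]; group)
      smul_mul := fun n v w => Subtype.ext (by
        change (n : G) * (v.1 * w.1) * (n : G)⁻¹ = ((n : G) * v.1 * (n : G)⁻¹) * ((n : G) * w.1 * (n : G)⁻¹)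
        group)
      smul_one := fun n => Subtype.ext (by
        change (n : G) * 1 * (n : G)⁻¹ = 1
        group) }
  let ρ : N →* MulAut (OZ D) := MulDistribMulAction.toMulAut N (OZ D)
  have hρ : ∀ (n : N) (v : OZ D), ((ρ n v : OZ D) : G) = (n : G) * v * (n : G)⁻¹ := fun n v => rfl
  have hρD : ∀ n ∈ D.subgroupOf N, ρ n = 1 := by
    intro n hn
    rw [mem_subgroupOf] at hn
    apply MulEquiv.ext
    intro v
    apply Subtype.ext
    rw [hρ]
    change (n : G) * v * (n : G)⁻¹ = v
    rw [← OZ_comm v.2 hn]; group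
  let ρ' : N ⧸ (D.subgroupOf N) →* MulAut (OZ D) := QuotientGroup.lift _ ρ hρD
  have hρ' : ∀ n : N, ρ' (f n) = ρ n := fun n => rfl
  haveI : Nontrivial (OZ D) := (Subgroup.nontrivial_iff_ne_bot _).2 (OZ_ne_bot hD.2.two hD.1)
  refine ⟨OZ D, inferInstance, inferInstance, inferInstance, ρ'.comp L.subtype, ?_, ?_⟩
  · intro v; exact Subtype.ext (IsEA_OZ D v v.2)
  · intro x hx hxo v hv
    by_contra hv1
    obtain ⟨y, hy⟩ := hf (x : N ⧸ (D.subgroupOf N))
    have hxo' : Odd (orderOf (x : N ⧸ (D.subgroupOf N))) := by rw [Subgroup.orderOf_coe]; exact hxo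
    obtain ⟨z, hz, hzo⟩ := lift_odd f hxo' hy
    have h1 : ρ z v = v := by
      rw [← hρ', hz]; exact hv
    have h2 : (z : G) * v * (z : G)⁻¹ = v := by rw [← hρ, h1]
    rw [mul_inv_eq_iff_eq_mul] at h2
    have h3 : orderOf (v : G) = 2 := (IsEA_OZ D).orderOf v.2 (fun h => hv1 (Subtype.ext h))
    have h4 : (z : G) = 1 := hS z v h3 (by rw [Subgroup.orderOf_coe]; exact hzo) h2
    apply hx
    apply Subtype.ext
    rw [← hz]
    have h5 : z = 1 := Subtype.ext h4
    rw [h5, map_one]; rfl

theorem concl_false {L : Type u} [Group L] [Finite L] (hS : Sep L) (hc : Concl L) (hna : ∃ a b : L, a * b ≠ b * a)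
    {V : Type u} [Group V] [Finite V] [Nontrivial V] (σ : L →* MulAut V) (h2 : ∀ v : V, v * v = 1)
    (hfix : ∀ x, x ≠ 1 → Odd (orderOf x) → ∀ v, σ x v = v → v = 1) : TI L := by
  rcases hc with ⟨F, _, _, hodd, ⟨e⟩⟩ | ⟨F, _, _, h4, ⟨e⟩⟩
  · have hF1 : 1 < Fintype.card F := Fintype.one_lt_card
    by_cases h3 : Fintype.card F = 3
    · exact ti_of_psl2_small hS (Or.inl h3) e
    by_cases h5 : Fintype.card F = 5
    · exact ti_of_psl2_small hS (Or.inr h5) e
    exfalso
    have h6 : 5 < Fintype.card F := by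
      obtain ⟨k, hk⟩ := hodd
      omega
    have h7 := H44.CITM11.psl2_arith hodd (by omega) (sep_equiv hS e)
    apply psl2_false h6 (h7.imp id (fun h => h.1)) h2 (σ.comp e.symm.toMonoidHom)
    intro x hx hxo v hv
    apply hfix (e.symm x) _ _ v hv
    · intro h
      apply hx
      rw [← map_one e.symm] at h
      exact e.symm.injective h
    · rw [MulEquiv.orderOf_eq]; exact hxo
  · exfalso
    apply psl3_false h4 h2 (σ.comp e.symm.toMonoidHom)
    intro x hx hxo v hv
    apply hfix (e.symm x) _ _ v hv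
    · intro h
      apply hx
      rw [← map_one e.symm] at h
      exact e.symm.injective h
    · rw [MulEquiv.orderOf_eq]; exact hxo

theorem lemmaE {G : Type u} [Group G] [Finite G] (hS : Sep G)
    (hIH : ∀ (L : Type u) [Group L] [Finite L] [IsSimpleGroup L], Nat.card L < Nat.card G →
      (∃ a b : L, a * b ≠ b * a) → Sep L → 2 ∣ Nat.card L → TI L ∨ Concl L)
    {D : Subgroup G} (hD : Rad D) : TIMod D (normalizer (D : Set G)) := by
  haveI : Fact (Nat.Prime 2) := ⟨Nat.prime_two⟩
  haveI hnormal : (D.subgroupOf (normalizer (D : Set G))).Normal :=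
    (normal_subgroupOf_iff_le_normalizer hD.2.le).2 le_rfl
  have hno := no_concl hS hD
  set N := normalizer (D : Set G) with hN
  let f : N →* N ⧸ (D.subgroupOf N) := QuotientGroup.mk' _
  have hf : Function.Surjective f := QuotientGroup.mk'_surjective _
  have hker : f.ker = D.subgroupOf N := QuotientGroup.ker_mk' _
  have hK : IsPGroup 2 f.ker := by rw [hker]; exact (isPGroup_subgroupOf hD.2.le).2 hD.2.two
  have hQ := sep_quotient (sep_subgroup hS N) f hf hK
  -- no normal 2-subgroups
  have h2 : ∀ K : Subgroup (N ⧸ (D.subgroupOf N)), K.Normal → IsPGroup 2 K → K = ⊥ := by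
    intro K hKn hK2
    have h1 : IsPGroup 2 (K.comap f) := hK2.comap_of_ker_isPGroup f hK
    have h3 : (K.comap f).map N.subtype ≤ D := by
      apply hD.2.max _ (map_subtype_le _)
      · apply le_normalizer_of_conj_mem
        rintro g hg _ ⟨n, hn, rfl⟩
        exact ⟨⟨g, hg⟩ * n * ⟨g, hg⟩⁻¹, (hKn.comap f).conj_mem n hn ⟨g, hg⟩, rfl⟩
      · exact isPGroup_map_subtype.2 h1
    rw [eq_bot_iff]
    intro x hx
    obtain ⟨y, rfl⟩ := hf x
    rw [Subgroup.mem_bot]
    have h4 : (y : G) ∈ D := h3 ⟨y, hx, rfl⟩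
    have h5 : y ∈ f.ker := by rw [hker, mem_subgroupOf]; exact h4
    exact h5
  -- size
  have hlt : Nat.card (N ⧸ (D.subgroupOf N)) < Nat.card G := by
    have h1 := card_mul_index (D.subgroupOf N)
    rw [card_subgroupOf hD.2.le] at h1
    have h3 : (D.subgroupOf N).index = Nat.card (N ⧸ (D.subgroupOf N)) := rfl
    have h4 : 1 < Nat.card D := by
      rw [← not_le]
      intro h5
      exact hD.1 ((Subgroup.card_le_one_iff_eq_bot D).1 h5)
    have h5 : Nat.card N ≤ Nat.card G := Subgroup.card_le_card_group N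
    rw [h3] at h1
    have h6 : 0 < Nat.card (N ⧸ (D.subgroupOf N)) := Nat.card_pos
    nlinarith
  have hTIH : TI (N ⧸ (D.subgroupOf N)) := by
    by_cases htriv : Nontrivial (N ⧸ (D.subgroupOf N))
    · by_cases hodd : ∀ K : Subgroup (N ⧸ (D.subgroupOf N)), K.Normal → Odd (Nat.card K) → K = ⊥
      · obtain ⟨L, hL, hLs, hL2, hLna⟩ := exists_simple_normal hQ h2 hodd
        have hSL := sep_subgroup hQ L
        have hLlt : Nat.card L < Nat.card G := (Subgroup.card_le_card_group L).trans_lt hlt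
        have hTL : TI L := by
          rcases hIH L hLlt hLna hSL hL2 with h | h
          · exact h
          · obtain ⟨V, _, _, _, σ, hV2, hfix⟩ := hno L
            exact concl_false hSL h hLna σ hV2 hfix
        exact H28.CITM5.ti_overgroup hQ L hLna hL2 hTL
      · push Not at hodd
        obtain ⟨K, hKn, hKo, hK1⟩ := hodd
        exact ti_of_odd_normal hQ hKo hK1
    · intro P Q _
      haveI := not_nontrivial_iff_subsingleton.1 htriv
      rw [eq_bot_iff]
      intro x _
      rw [Subgroup.mem_bot]; exact Subsingleton.elim _ _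
  intro P P' hP hP' hne x hx
  by_contra hxD
  apply hne
  have h1 : ∀ R : Sylow 2 N, ((R.mapSurjective hf : Sylow 2 _) : Subgroup _).comap f = R := by
    intro R
    change ((R : Subgroup N).map f).comap f = R
    rw [comap_map_eq, sup_eq_left.2 (hK.le_sylow_of_normal R)]
  have h3 : (hP.toSylow).mapSurjective hf = (hP'.toSylow).mapSurjective hf := by
    by_contra hcon
    have h4 := hTIH _ _ hcon
    have hxN : x ∈ N := hP.le hx.1
    have h5 : f ⟨x, hxN⟩ ∈ (((hP.toSylow).mapSurjective hf : Sylow 2 (N ⧸ (D.subgroupOf N))) :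
        Subgroup (N ⧸ (D.subgroupOf N))) ⊓ ((hP'.toSylow).mapSurjective hf : Sylow 2 (N ⧸ (D.subgroupOf N))) := by
      constructor
      · exact mem_map_of_mem f (by rw [hP.coe_toSylow, mem_subgroupOf]; exact hx.1)
      · exact mem_map_of_mem f (by rw [hP'.coe_toSylow, mem_subgroupOf]; exact hx.2)
    rw [h4, Subgroup.mem_bot] at h5
    apply hxD
    have h6 : (⟨x, hxN⟩ : N) ∈ f.ker := h5
    rw [hker, mem_subgroupOf] at h6
    exact h6
  have h4 := congrArg (fun A : Sylow 2 (N ⧸ (D.subgroupOf N)) => (A : Subgroup _).comap f) h3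
  simp only [h1] at h4
  rw [← hP.map_toSylow, ← hP'.map_toSylow, h4]

/-- **The CIT theorem** -/
theorem cit' {G : Type u} [Group G] [Finite G] [IsSimpleGroup G] (hna : ∃ a b : G, a * b ≠ b * a)
    (hS : Sep G) (h2 : 2 ∣ Nat.card G) : TI G ∨ Concl G := by
  suffices H : ∀ n : ℕ, ∀ (L : Type u) [Group L] [Finite L] [IsSimpleGroup L], Nat.card L = n →
      (∃ a b : L, a * b ≠ b * a) → Sep L → 2 ∣ Nat.card L → TI L ∨ Concl L from
    H _ G rfl hna hS h2
  intro n
  induction n using Nat.strong_induction_on with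
  | _ n ih =>
    intro L _ _ _ hn hna hS h2
    apply main_local hna hS h2
    intro D hD
    apply lemmaE hS _ hD
    intro K _ _ _ hlt hKna hKS hK2
    exact ih (Nat.card K) (hn ▸ hlt) K rfl hKna hKS hK2

end Lead.CITA
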